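import Cfsg.Agent.Lib.Classical.Quad.Std
import Cfsg.Agent.Lib.Orth.Spinor
import Cfsg.Agent.Lib.StdForm.QuadFour

/-!
Common machinery for the small isomorphisms: representations preserving a form as homomorphisms into
`Cfsg.isometryGroup`, the orders of the standard isometry groups, an upper bound for the derived
group, and the passage from a representation to `POmega`.
-/

set_option autoImplicit false

namespace CfsgLib.Classical.SmallIso

open QuadraticMap

open scoped commutatorElement

section Hom

variable {F : Type*} [Field F] {ι : Type} [Fintype ι] [DecidableEq ι] {Qf : (ι → F) → F}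
variable {G : Type*} [Group G]

/-- A representation preserving `Qf`, as a homomorphism into the isometry group. -/
noncomputable def homOfEnd (f : G →* Module.End F (ι → F)) (hQ : ∀ g v, Qf (f g v) = Qf v) :
    G →* Cfsg.isometryGroup F Qf :=
  (((LinearMap.toMatrixAlgEquiv' (R := F) (n := ι)).toMulEquiv.toMonoidHom).comp f).toHomUnits.codRestrict _
    fun g u _ => by
      show Qf ((LinearMap.toMatrixAlgEquiv' (f g)).mulVec u) = Qf u
      rw [← Matrix.toLinAlgEquiv'_apply, Matrix.toLinAlgEquiv'_toMatrixAlgEquiv', hQ]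

theorem homOfEnd_mulVec (f : G →* Module.End F (ι → F)) (hQ : ∀ g v, Qf (f g v) = Qf v) (g : G)
    (v : ι → F) : ((homOfEnd f hQ g).1 : Matrix ι ι F).mulVec v = f g v := by
  show (LinearMap.toMatrixAlgEquiv' (f g)).mulVec v = f g v
  rw [← Matrix.toLinAlgEquiv'_apply, Matrix.toLinAlgEquiv'_toMatrixAlgEquiv']

theorem mem_ker_homOfEnd (f : G →* Module.End F (ι → F)) (hQ : ∀ g v, Qf (f g v) = Qf v) (g : G) :
    g ∈ (homOfEnd f hQ).ker ↔ ∀ v, f g v = v := by
  rw [MonoidHom.mem_ker]
  constructor
  · intro h v
    rw [← homOfEnd_mulVec f hQ g v, h]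
    simp
  · intro h
    apply Subtype.ext
    apply Units.ext
    apply Matrix.toLinAlgEquiv'.injective
    refine LinearMap.ext fun v => ?_
    rw [Matrix.toLinAlgEquiv'_apply, Matrix.toLinAlgEquiv'_apply, homOfEnd_mulVec, h]
    simp

end Hom

section Abstract

variable {G O : Type*} [Group G] [Group O]

/-- From a homomorphism onto the derived group to the central quotient. -/
theorem nonempty_central_quotient_equiv [Finite G] [Finite O] (f : G →* O)
    (hle : f.range ≤ commutator O)
    (hcard : Nat.card (commutator O) * Nat.card f.ker ≤ Nat.card G)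
    (hcc : ∀ g : G, (∀ h : G, ⁅g, h⁆ ∈ f.ker) → g ∈ Subgroup.center G) :
    Nonempty (commutator O ⧸ Subgroup.center (commutator O) ≃* G ⧸ Subgroup.center G) := by
  have hr : Nat.card f.range * Nat.card f.ker = Nat.card G := by
    rw [← Subgroup.index_ker, mul_comm, Subgroup.card_mul_index]
  have heq : f.range = commutator O := Subgroup.eq_of_le_of_card_ge hle
    (Nat.le_of_mul_le_mul_right (hcard.trans hr.ge) Nat.card_pos)
  let φ : G →* commutator O := f.codRestrict _ fun g => hle ⟨g, rfl⟩
  have hφ : Function.Surjective φ := by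
    rintro ⟨x, hx⟩
    rw [← heq] at hx
    obtain ⟨g, rfl⟩ := hx
    exact ⟨g, rfl⟩
  set π := (QuotientGroup.mk' (Subgroup.center (commutator O))).comp φ
  have hπ : Function.Surjective π := (QuotientGroup.mk'_surjective _).comp hφ
  have hker : π.ker = Subgroup.center G := by
    ext g
    rw [MonoidHom.mem_ker, MonoidHom.comp_apply, QuotientGroup.mk'_apply, QuotientGroup.eq_one_iff]
    constructor
    · intro hg
      refine hcc g fun h => ?_
      rw [MonoidHom.mem_ker, map_commutatorElement, commutatorElement_eq_one_iff_mul_comm]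
      exact congrArg Subtype.val ((Subgroup.mem_center_iff.1 hg (φ h)).symm)
    · intro hg
      refine Subgroup.mem_center_iff.2 fun y => ?_
      obtain ⟨h, rfl⟩ := hφ y
      rw [← map_mul, ← map_mul, Subgroup.mem_center_iff.1 hg]
  exact ⟨(QuotientGroup.quotientKerEquivOfSurjective π hπ).symm.trans
    (QuotientGroup.quotientMulEquivOfEq hker)⟩

/-- In a perfect group an element central modulo a central subgroup is central. -/
theorem mem_center_of_perfect (hperf : commutator G = ⊤) {K : Subgroup G}
    (hK : K ≤ Subgroup.center G) {g : G} (hg : ∀ h : G, ⁅g, h⁆ ∈ K) : g ∈ Subgroup.center G := by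
  have hz : ∀ h y : G, y * ⁅g, h⁆ = ⁅g, h⁆ * y := fun h y =>
    Subgroup.mem_center_iff.1 (hK (hg h)) y
  let χ : G →* Subgroup.center G :=
    { toFun := fun h => ⟨⁅g, h⁆, hK (hg h)⟩
      map_one' := Subtype.ext (commutatorElement_one_right g)
      map_mul' := fun h k => Subtype.ext (by
        show ⁅g, h * k⁆ = ⁅g, h⁆ * ⁅g, k⁆
        have e : ⁅g, h * k⁆ = ⁅g, h⁆ * (h * ⁅g, k⁆ * h⁻¹) := by
          simp only [commutatorElement_def]; group
        rw [e, hz k h, mul_inv_cancel_right]) }
  have htop : χ.ker = ⊤ := by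
    rw [eq_top_iff, ← hperf, commutator_def, Subgroup.commutator_le]
    intro a _ b _
    rw [MonoidHom.mem_ker, map_commutatorElement, commutatorElement_eq_one_iff_mul_comm]
    exact Subtype.ext (Subgroup.mem_center_iff.1 (χ b).2 (χ a).1)
  refine Subgroup.mem_center_iff.2 fun h => ?_
  have h1 : χ h = 1 := by rw [← MonoidHom.mem_ker, htop]; trivial
  exact ((commutatorElement_eq_one_iff_mul_comm).1 (congrArg Subtype.val h1)).symm

/-- A perfect subgroup of index at most four contains the derived group. -/
theorem commutator_le_of_perfect_of_index_le_four [Finite O] (H : Subgroup O)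
    (hperf : commutator H = ⊤) (hidx : H.index ≤ 4) : commutator O ≤ H := by
  classical
  set σ := MulAction.toPermHom O (O ⧸ H)
  have hfin : Nat.card (O ⧸ H) ≤ 4 := by rw [← Subgroup.index_eq_card]; exact hidx
  have hsol : Group.IsSolvable (Equiv.Perm (O ⧸ H)) :=
    CfsgLib.StdForm.isSolvable_perm_of_card_le_four _ hfin
  have hHker : H ≤ σ.ker := by
    intro h hh
    have : ((σ.comp H.subtype).range) = ⊥ := by
      haveI := hsol
      by_contra hne
      haveI : Nontrivial (σ.comp H.subtype).range :=
        (Subgroup.nontrivial_iff_ne_bot _).2 hne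
      refine (Group.IsSolvable.commutator_lt_top_of_nontrivial (σ.comp H.subtype).range).ne ?_
      have h1 := Subgroup.map_commutator (⊤ : Subgroup H) ⊤ (σ.comp H.subtype).rangeRestrict
      rw [← commutator_def, hperf, Subgroup.map_top_of_surjective _
        (MonoidHom.rangeRestrict_surjective _), ← commutator_def] at h1
      exact h1.symm
    have h2 : (σ.comp H.subtype) ⟨h, hh⟩ ∈ (σ.comp H.subtype).range := ⟨_, rfl⟩
    rw [this, Subgroup.mem_bot] at h2
    exact MonoidHom.mem_ker.2 h2
  have heq : σ.ker = H := le_antisymm (fun g hg => by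
    have h1 := Equiv.ext_iff.1 (MonoidHom.mem_ker.1 hg) ((1 : O) : O ⧸ H)
    simpa [σ, MulAction.toPermHom_apply, QuotientGroup.eq] using h1) hHker
  haveI : H.Normal := heq ▸ MonoidHom.normal_ker σ
  -- a group of order at most four is commutative
  have hab : ∀ a b : O ⧸ H, a * b = b * a := by
    intro a b
    have h4 : Nat.card (O ⧸ H) ≤ 4 := hfin
    have hpos : 0 < Nat.card (O ⧸ H) := Nat.card_pos
    interval_cases hc : Nat.card (O ⧸ H)
    · haveI := (Nat.card_eq_one_iff_unique.1 hc).1
      exact Subsingleton.elim _ _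
    · haveI : Fact (Nat.Prime 2) := ⟨Nat.prime_two⟩
      haveI := isCyclic_of_prime_card hc
      exact mul_comm' a b
    · haveI : Fact (Nat.Prime 3) := ⟨Nat.prime_three⟩
      haveI := isCyclic_of_prime_card hc
      exact mul_comm' a b
    · haveI : Fact (Nat.Prime 2) := ⟨Nat.prime_two⟩
      exact IsPGroup.commutative_of_card_eq_prime_sq (p := 2) (by rw [hc]; norm_num) a b
  rw [commutator_def, Subgroup.commutator_le]
  intro a _ b _
  rw [← QuotientGroup.eq_one_iff, ← QuotientGroup.mk'_apply, map_commutatorElement,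
    commutatorElement_eq_one_iff_mul_comm]
  exact hab _ _

/-- The case of a perfect group whose image has index at most four. -/
theorem nonempty_central_quotient_equiv_perfect [Finite G] [Finite O] (f : G →* O)
    (hperf : commutator G = ⊤) (hker : f.ker ≤ Subgroup.center G)
    (hcard : Nat.card O * Nat.card f.ker ≤ 4 * Nat.card G) :
    Nonempty (commutator O ⧸ Subgroup.center (commutator O) ≃* G ⧸ Subgroup.center G) := by
  have hr : Nat.card f.range * Nat.card f.ker = Nat.card G := by
    rw [← Subgroup.index_ker, mul_comm, Subgroup.card_mul_index]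
  have hle : f.range ≤ commutator O := by
    rw [MonoidHom.range_eq_map, ← hperf, commutator_def, Subgroup.map_commutator, commutator_def]
    exact Subgroup.commutator_mono le_top le_top
  have hperf' : commutator f.range = ⊤ := by
    have h1 := Subgroup.map_commutator (⊤ : Subgroup G) ⊤ f.rangeRestrict
    rw [← commutator_def, hperf, Subgroup.map_top_of_surjective _
      f.rangeRestrict_surjective, ← commutator_def] at h1
    exact h1.symm
  have hidx : f.range.index ≤ 4 := by
    have h1 := f.range.card_mul_index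
    have hk : 0 < Nat.card f.ker * Nat.card f.range := Nat.mul_pos Nat.card_pos Nat.card_pos
    refine Nat.le_of_mul_le_mul_right ?_ hk
    calc f.range.index * (Nat.card f.ker * Nat.card f.range)
        = Nat.card O * Nat.card f.ker := by rw [← h1]; ring
      _ ≤ 4 * Nat.card G := hcard
      _ = 4 * (Nat.card f.ker * Nat.card f.range) := by rw [← hr]; ring
  refine nonempty_central_quotient_equiv f hle ?_ fun g hg => mem_center_of_perfect hperf hker hg
  rw [← hr]
  exact Nat.mul_le_mul_right _
    (Subgroup.card_le_of_le (commutator_le_of_perfect_of_index_le_four _ hperf' hidx))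

end Abstract

section Forms

variable {F : Type*} [Field F] [Fintype F] {ι : Type} [Fintype ι] [DecidableEq ι]

theorem polarBilin_nondegenerate {Q : QuadraticForm F (ι → F)} (h : Quad.NDPolar Q) :
    (QuadraticMap.polarBilin Q).Nondegenerate := by
  refine ⟨fun x hx => h x hx, fun x hx => h x fun y => ?_⟩
  rw [polar_comm]
  exact hx y

/-- For odd characteristic the derived group has index at least four. -/
theorem four_mul_card_commutator_le (h2 : (2 : F) ≠ 0) {Q : QuadraticForm F (ι → F)}
    (hQ : Quad.NDPolar Q) (hn : 2 ≤ Fintype.card ι) :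
    4 * Nat.card (commutator (Cfsg.isometryGroup F ⇑Q)) ≤ Nat.card (Cfsg.isometryGroup F ⇑Q) := by
  classical
  have hQ' := polarBilin_nondegenerate hQ
  obtain ⟨ν, hν, hns⟩ := OrthSpinor.exists_nonsquare' h2
  obtain ⟨x, hx⟩ := OrthSpinor.exists_norm h2 hQ' hn 1
  obtain ⟨y, hy⟩ := OrthSpinor.exists_norm h2 hQ' hn ν
  have hxn : Q x ≠ 0 := by rw [hx]; exact one_ne_zero
  have hyn : Q y ≠ 0 := by rw [hy]; exact hν
  set χ := (OrthSpinor.detHom (Q := Q)).prod (OrthSpinor.theta (Q := Q) 1)
  have hle : commutator (Cfsg.isometryGroup F ⇑Q) ≤ χ.ker :=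
    Abelianization.commutator_subset_ker χ
  have hne : (-1 : Fˣ) ≠ 1 := by
    intro h
    have h' := congrArg Units.val h
    rw [Units.val_neg, Units.val_one] at h'
    exact h2 (by linear_combination -h')
  have e1 : χ (OrthSpinor.reflection hxn) = (-1, -1) := by
    refine Prod.ext (OrthSpinor.detHom_reflection hxn) ?_
    exact OrthSpinor.theta_reflection_of_square h2 one_ne_zero hxn
      (by rw [hx, mul_one]; exact IsSquare.one)
  have e2 : χ (OrthSpinor.reflection hyn) = (-1, 1) := by
    refine Prod.ext (OrthSpinor.detHom_reflection hyn) ?_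
    exact OrthSpinor.theta_reflection_of_nonsquare h2 one_ne_zero hyn (by rwa [hy, one_mul])
  have hsub : ({(1, 1), (-1, -1), (-1, 1), (1, -1)} : Set (Fˣ × ℤˣ)) ⊆ χ.range := by
    intro z hz
    simp only [Set.mem_insert_iff, Set.mem_singleton_iff] at hz
    rcases hz with rfl | rfl | rfl | rfl
    · exact one_mem χ.range
    · exact ⟨_, e1⟩
    · exact ⟨_, e2⟩
    · exact ⟨OrthSpinor.reflection hxn * OrthSpinor.reflection hyn, by
        rw [map_mul, e1, e2]; simp⟩
  have h4 : 4 ≤ χ.ker.index := by
    rw [Subgroup.index_ker]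
    have hc : ({(1, 1), (-1, -1), (-1, 1), (1, -1)} : Set (Fˣ × ℤˣ)).ncard = 4 := by
      have hz : (-1 : ℤˣ) ≠ 1 := by decide
      rw [Set.ncard_insert_of_notMem (by simp [hne.symm, hz.symm]),
        Set.ncard_insert_of_notMem (by simp [hne, hz]),
        Set.ncard_insert_of_notMem (by simp [hne]), Set.ncard_singleton]
    rw [← hc]
    exact (Set.ncard_le_ncard hsub (Set.toFinite _)).trans_eq (Nat.card_coe_set_eq _).symm
  have h1 := χ.ker.card_mul_index
  have h2' := Subgroup.card_le_of_le hle
  calc 4 * Nat.card (commutator (Cfsg.isometryGroup F ⇑Q)) ≤ χ.ker.index * Nat.card χ.ker :=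
        Nat.mul_le_mul h4 h2'
    _ = _ := by rw [mul_comm, h1]

theorem four_mul_card_omega_odd_le (h2 : (2 : F) ≠ 0) {m : ℕ} (hm : 1 ≤ m) :
    4 * Nat.card (commutator (Cfsg.isometryGroup F (Cfsg.quadFormOdd m F)))
      ≤ Nat.card (Cfsg.isometryGroup F (Cfsg.quadFormOdd m F)) := by
  set Q := (Quad.hypForm m (Quad.lineForm F)).comp (Quad.oddEquiv m F).toLinearMap with hQdef
  have hQ : ⇑Q = Cfsg.quadFormOdd m F := funext (Quad.oddEquiv_spec m)
  rw [← hQ]
  refine four_mul_card_commutator_le h2 (fun x hx => ?_) (by simp; omega)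
  refine (Quad.oddEquiv m F).map_eq_zero_iff.1
    (Quad.ndPolar_hypForm (Quad.ndPolar_lineForm h2) m _ fun y => ?_)
  have h := hx ((Quad.oddEquiv m F).symm y)
  simpa [hQdef, polar] using h

theorem card_isometryGroup_odd (h2 : (2 : F) ≠ 0) (m : ℕ) :
    Nat.card (Cfsg.isometryGroup F (Cfsg.quadFormOdd m F)) =
      2 * Nat.card F ^ (m ^ 2) * ∏ i ∈ Finset.range m, (Nat.card F ^ (2 * (i + 1)) - 1) := by
  rw [Nat.card_congr (Quad.isometryEquivModel (Quad.oddEquiv m F) (Quad.oddEquiv_spec m)).toEquiv,
    Quad.card_orth_odd h2]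

theorem card_isometryGroup_plus (m : ℕ) :
    Nat.card (Cfsg.isometryGroup F (Cfsg.quadFormPlus (m + 1) F)) =
      2 * Nat.card F ^ ((m + 1) * m) * (Nat.card F ^ (m + 1) - 1)
        * ∏ i ∈ Finset.range m, (Nat.card F ^ (2 * (i + 1)) - 1) := by
  rw [Nat.card_congr (Quad.isometryEquivModel (Quad.plusEquiv (m + 1) F)
    (Quad.plusEquiv_spec (m + 1))).toEquiv, Quad.card_orth_plus]

theorem card_isometryGroup_minus {a b : F} (hab : Quad.IsAniso a b) (m : ℕ) :
    Nat.card (Cfsg.isometryGroup F (Cfsg.quadFormMinus m F a b)) =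
      2 * Nat.card F ^ ((m + 1) * m) * (Nat.card F ^ (m + 1) + 1)
        * ∏ i ∈ Finset.range m, (Nat.card F ^ (2 * (i + 1)) - 1) := by
  rw [Nat.card_congr (Quad.isometryEquivModel (Quad.minusEquiv m F)
    (Quad.minusEquiv_spec m a b)).toEquiv, Quad.card_orth_minus hab]

end Forms

end CfsgLib.Classical.SmallIso
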