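import Cfsg.Agent.Lib.Classical.SmallIso.Core
import Cfsg.Agent.Lib.Linear.Simple
import Cfsg.Agent.Lib.Linear.Card

/-!
The exterior square of a four-dimensional space: alternating `4 × 4` matrices with the Pfaffian,
and `PΩ⁺₆(q) ≅ PSL₄(q)`.
-/

set_option autoImplicit false

namespace CfsgLib.Classical.SmallIso

open Matrix

variable (F : Type*) [Field F]

/-- An alternating matrix from its six coordinates. -/
def altMat : (Fin 3 ⊕ Fin 3 → F) →ₗ[F] Matrix (Fin 4) (Fin 4) F where
  toFun v := !![0, v (.inl 0), v (.inl 1), v (.inl 2);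
                -v (.inl 0), 0, v (.inr 2), -v (.inr 1);
                -v (.inl 1), -v (.inr 2), 0, v (.inr 0);
                -v (.inl 2), v (.inr 1), -v (.inr 0), 0]
  map_add' u v := by ext i j; fin_cases i <;> fin_cases j <;> simp <;> ring
  map_smul' c v := by ext i j; fin_cases i <;> fin_cases j <;> simp

/-- The six coordinates of an alternating matrix. -/
def altCoord : Matrix (Fin 4) (Fin 4) F →ₗ[F] (Fin 3 ⊕ Fin 3 → F) where
  toFun X := Sum.elim ![X 0 1, X 0 2, X 0 3] ![X 2 3, X 3 1, X 1 2]
  map_add' X Y := by funext i; rcases i with i | i <;> fin_cases i <;> simp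
  map_smul' c X := by funext i; rcases i with i | i <;> fin_cases i <;> simp

/-- Interchanging complementary coordinates. -/
def altSwap (v : Fin 3 ⊕ Fin 3 → F) : Fin 3 ⊕ Fin 3 → F := v ∘ Sum.swap

variable {F}

theorem altCoord_mat (v : Fin 3 ⊕ Fin 3 → F) : altCoord F (altMat F v) = v := by
  funext i
  rcases i with i | i <;> fin_cases i <;> simp [altCoord, altMat]

theorem altMat_conj (A : Matrix (Fin 4) (Fin 4) F) (v : Fin 3 ⊕ Fin 3 → F) :
    altMat F (altCoord F (A * altMat F v * Aᵀ)) = A * altMat F v * Aᵀ := by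
  ext i j
  fin_cases i <;> fin_cases j <;>
    simp [altMat, altCoord, Matrix.mul_apply, Fin.sum_univ_four] <;> ring

/-- The exterior square of a matrix. -/
def extSquare : Matrix (Fin 4) (Fin 4) F →* Module.End F (Fin 3 ⊕ Fin 3 → F) where
  toFun A := (altCoord F).comp ((LinearMap.mulLeft F A).comp
    ((LinearMap.mulRight F Aᵀ).comp (altMat F)))
  map_one' := LinearMap.ext fun v => by simp [altCoord_mat]
  map_mul' A B := LinearMap.ext fun v => by
    simp only [Module.End.mul_apply, LinearMap.comp_apply, LinearMap.mulLeft_apply,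
      LinearMap.mulRight_apply]
    rw [← mul_assoc B, altMat_conj]
    simp [mul_assoc, Matrix.transpose_mul]

theorem extSquare_apply (A : Matrix (Fin 4) (Fin 4) F) (v : Fin 3 ⊕ Fin 3 → F) :
    extSquare A v = altCoord F (A * altMat F v * Aᵀ) := by
  simp [extSquare, mul_assoc]

theorem altMat_extSquare (A : Matrix (Fin 4) (Fin 4) F) (v : Fin 3 ⊕ Fin 3 → F) :
    altMat F (extSquare A v) = A * altMat F v * Aᵀ := by
  rw [extSquare_apply, altMat_conj]

theorem extSquare_Q_transvection {i j : Fin 4} (hij : i ≠ j) (c : F) (v : Fin 3 ⊕ Fin 3 → F) :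
    Cfsg.quadFormPlus 3 F (extSquare (Matrix.transvection i j c) v) = Cfsg.quadFormPlus 3 F v := by
  rw [extSquare_apply]
  fin_cases i <;> fin_cases j <;> simp at hij <;>
    simp [Cfsg.quadFormPlus, altMat, altCoord, Matrix.transvection, Matrix.mul_apply,
      Fin.sum_univ_four, Fin.sum_univ_three, Matrix.single_apply, Matrix.one_apply] <;> ring

theorem extSquare_swap_transvection {i j : Fin 4} (hij : i ≠ j) (c : F) (v : Fin 3 ⊕ Fin 3 → F) :
    extSquare (Matrix.transvection i j c)ᵀ (altSwap F (extSquare (Matrix.transvection i j c) v))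
      = altSwap F v := by
  rw [extSquare_apply, extSquare_apply]
  funext k
  rcases k with k | k <;> fin_cases k <;> fin_cases i <;> fin_cases j <;> simp at hij <;>
    simp [altSwap, altMat, altCoord, Matrix.transvection, Matrix.mul_apply,
      Fin.sum_univ_four, Matrix.single_apply, Matrix.one_apply] <;> ring

theorem extSquare_Q (A : Matrix.SpecialLinearGroup (Fin 4) F) (v : Fin 3 ⊕ Fin 3 → F) :
    Cfsg.quadFormPlus 3 F (extSquare A.1 v) = Cfsg.quadFormPlus 3 F v := by
  revert v
  refine CfsgLib.Linear.SL_transvection_induction (F := F) (n := Fin 4)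
    (fun A => ∀ v, Cfsg.quadFormPlus 3 F (extSquare A.1 v) = Cfsg.quadFormPlus 3 F v)
    (fun v => by simp) (fun i j hij c v => extSquare_Q_transvection hij c v)
    (fun A B hA hB v => ?_) A
  rw [Matrix.SpecialLinearGroup.coe_mul, map_mul, Module.End.mul_apply, hA, hB]

/-- The exterior square commutes with passing to complementary coordinates. -/
theorem extSquare_swap (A : Matrix.SpecialLinearGroup (Fin 4) F) (v : Fin 3 ⊕ Fin 3 → F) :
    extSquare A.1ᵀ (altSwap F (extSquare A.1 v)) = altSwap F v := by
  revert v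
  refine CfsgLib.Linear.SL_transvection_induction (F := F) (n := Fin 4)
    (fun A => ∀ v, extSquare A.1ᵀ (altSwap F (extSquare A.1 v)) = altSwap F v)
    (fun v => by simp) (fun i j hij c v => extSquare_swap_transvection hij c v)
    (fun A B hA hB v => ?_) A
  rw [Matrix.SpecialLinearGroup.coe_mul, Matrix.transpose_mul, map_mul, map_mul,
    Module.End.mul_apply, Module.End.mul_apply, hA, hB]

theorem extSquare_scalar (r : F) (v : Fin 3 ⊕ Fin 3 → F) :
    extSquare (Matrix.scalar (Fin 4) r) v = (r * r) • v := by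
  rw [extSquare_apply, show Matrix.scalar (Fin 4) r = r • (1 : Matrix (Fin 4) (Fin 4) F) by
    rw [Matrix.scalar_apply, Matrix.smul_one_eq_diagonal], Matrix.transpose_smul,
    Matrix.transpose_one, Matrix.smul_mul, one_mul, Matrix.mul_smul, mul_one, smul_smul, map_smul,
    altCoord_mat]

/-- `SL₄` into the orthogonal group of the Pfaffian. -/
noncomputable def slToO6 : Matrix.SpecialLinearGroup (Fin 4) F →*
    Cfsg.isometryGroup F (Cfsg.quadFormPlus 3 F) :=
  homOfEnd (extSquare.comp ((Units.coeHom (Matrix (Fin 4) (Fin 4) F)).comp Matrix.SpecialLinearGroup.toGL))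
    fun A v => extSquare_Q A v

end CfsgLib.Classical.SmallIso
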