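import Cfsg.Agent.Lib.Classical.SmallIso.Core
import Cfsg.Agent.Lib.TwoFusion.DihedralIso

/-!
`GO⁺₂(q)` and `GO⁻₂(q)` are dihedral.
-/

set_option autoImplicit false

namespace CfsgLib.Classical.SmallIso

open QuadraticMap

/-- A group of order `2 m` with a rotation of order `m` inverted by an involution outside it. -/
theorem nonempty_dihedral_of_card {G : Type*} [Group G] [Finite G] {m : ℕ} (hm : 0 < m) {a b : G}
    (ha : orderOf a = m) (hb : b * b = 1) (hba : b * a * b⁻¹ = a⁻¹)
    (hnot : b ∉ Subgroup.zpowers a) (hG : Nat.card G = 2 * m) :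
    Nonempty (G ≃* DihedralGroup m) := by
  have hidx : (Subgroup.zpowers a).index = 2 := by
    have h := (Subgroup.zpowers a).card_mul_index
    rw [Nat.card_zpowers, ha, hG, mul_comm 2 m] at h
    exact Nat.eq_of_mul_eq_mul_left hm h
  obtain ⟨e⟩ := CfsgLib.TwoFusion.exists_dihedral_mulEquiv hm ha hb hba hnot ⊤ fun g => by
    refine iff_of_true (Subgroup.mem_top _) ?_
    by_cases hg : g ∈ Subgroup.zpowers a
    · obtain ⟨i, hi⟩ := hg
      exact ⟨i, Or.inl hi.symm⟩
    · have h1 : b * g ∈ Subgroup.zpowers a := by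
        rw [Subgroup.mul_mem_iff_of_index_two hidx]
        exact iff_of_false hnot hg
      obtain ⟨i, hi⟩ := h1
      have hi' : a ^ i = b * g := hi
      exact ⟨i, Or.inr (by rw [hi', ← mul_assoc, hb, one_mul])⟩
  exact ⟨Subgroup.topEquiv.symm.trans e⟩

variable {F : Type*} [Field F] [Fintype F]

/-- The hyperbolic plane on `Fin 1 ⊕ Fin 1`. -/
noncomputable def planeQ (F : Type*) [Field F] : QuadraticForm F (Fin 1 ⊕ Fin 1 → F) :=
  (Quad.hypForm 1 (Quad.zeroKernel F)).comp (Quad.plusEquiv 1 F).toLinearMap

theorem planeQ_apply (v : Fin 1 ⊕ Fin 1 → F) : planeQ F v = v (.inl 0) * v (.inr 0) := by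
  rw [planeQ, QuadraticMap.comp_apply, LinearEquiv.coe_coe, Quad.plusEquiv_spec]
  simp [Cfsg.quadFormPlus]

/-- Scaling the two isotropic lines inversely. -/
noncomputable def planeRot (u : Fˣ) : Quad.Orth (planeQ F) :=
  ⟨{ toFun := fun v => Sum.elim (fun i => (u : F) * v (.inl i)) (fun i => ((u⁻¹ : Fˣ) : F) * v (.inr i))
     invFun := fun v => Sum.elim (fun i => ((u⁻¹ : Fˣ) : F) * v (.inl i)) (fun i => (u : F) * v (.inr i))
     left_inv := fun v => by funext i; rcases i with i | i <;> simp
     right_inv := fun v => by funext i; rcases i with i | i <;> simp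
     map_add' := fun v w => by funext i; rcases i with i | i <;> simp [mul_add]
     map_smul' := fun c v => by funext i; rcases i with i | i <;> simp <;> ring },
    fun v => by
      rw [planeQ_apply, planeQ_apply]
      show (u : F) * v (.inl 0) * (((u⁻¹ : Fˣ) : F) * v (.inr 0)) = _
      linear_combination (v (.inl 0) * v (.inr 0)) * Units.mul_inv u⟩

/-- The rotations as a homomorphism. -/
noncomputable def planeRotHom : Fˣ →* Quad.Orth (planeQ F) :=
  MonoidHom.mk' planeRot fun u u' => Quad.orth_ext fun v => by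
    funext i
    rw [Quad.mul_apply]
    rcases i with i | i <;> simp [planeRot] <;> ring

/-- Interchanging the two isotropic lines. -/
noncomputable def planeFlip : Quad.Orth (planeQ F) :=
  ⟨LinearEquiv.funCongrLeft F F (Equiv.sumComm (Fin 1) (Fin 1)), fun v => by
    rw [planeQ_apply, planeQ_apply]
    show v (.inr 0) * v (.inl 0) = _
    ring⟩

theorem nonempty_go2_plus_equiv {q : ℕ} (hF : Fintype.card F = q) :
    Nonempty (Cfsg.isometryGroup F (Cfsg.quadFormPlus 1 F) ≃* DihedralGroup (q - 1)) := by
  have hq : 1 < q := hF ▸ Fintype.one_lt_card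
  let E : Cfsg.isometryGroup F (Cfsg.quadFormPlus 1 F) ≃* Quad.Orth (planeQ F) :=
    Quad.isometryGroupEquiv (planeQ F) fun v => by
      rw [planeQ_apply]; simp [Cfsg.quadFormPlus]
  haveI : Finite (Quad.Orth (planeQ F)) := Finite.of_equiv _ E.toEquiv
  obtain ⟨u, hu⟩ := IsCyclic.exists_generator (α := Fˣ)
  have hinj : Function.Injective (planeRotHom (F := F)) := by
    intro x y h
    have h1 := congrFun (congrArg (fun g : Quad.Orth (planeQ F) => g.1 (fun _ => 1)) h) (.inl 0)
    exact Units.ext (by simpa [planeRotHom, planeRot] using h1)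
  obtain ⟨e⟩ := nonempty_dihedral_of_card (G := Quad.Orth (planeQ F)) (m := q - 1)
    (a := planeRotHom u) (b := planeFlip) (by omega)
    (by rw [orderOf_injective _ hinj, orderOf_eq_card_of_forall_mem_zpowers hu, Nat.card_units,
      Nat.card_eq_fintype_card, hF])
    (Quad.orth_ext fun v => by
      funext i
      rw [Quad.mul_apply, Quad.one_apply]
      rcases i with i | i <;> rfl)
    (by
      rw [mul_inv_eq_iff_eq_mul, ← map_inv]
      refine Quad.orth_ext fun v => ?_
      funext i
      rw [Quad.mul_apply, Quad.mul_apply]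
      rcases i with i | i <;> simp [planeRotHom, planeRot, planeFlip])
    (by
      rintro ⟨k, hk⟩
      have hk' : planeRotHom (u ^ k) = planeFlip := by rw [map_zpow]; exact hk
      have h1 := congrFun (congrArg (fun g : Quad.Orth (planeQ F) =>
        g.1 (Sum.elim (fun _ => 1) (fun _ => 0))) hk') (.inr 0)
      simp [planeRotHom, planeRot, planeFlip] at h1)
    (by
      rw [← Nat.card_congr E.toEquiv, card_isometryGroup_plus, Nat.card_eq_fintype_card, hF]
      simp)
  exact ⟨E.trans e⟩

theorem nonempty_go2_minus_equiv {q : ℕ} (hF : Fintype.card F = q) (a b : F)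
    (hab : Quad.IsAniso a b) :
    Nonempty (Cfsg.isometryGroup F (Cfsg.quadFormMinus 0 F a b) ≃* DihedralGroup (q + 1)) := by
  classical
  haveI : Fact (∀ r : F, r ^ 2 ≠ -b + a * r) := ⟨fun r hr => by
    have h := hab (-r) 1 (by linear_combination hr)
    exact one_ne_zero h.2⟩
  let E : Cfsg.isometryGroup F (Cfsg.quadFormMinus 0 F a b) ≃* Quad.Orth (Quad.binForm a b) :=
    Quad.isometryEquivModel ((Quad.minusEquiv 0 F).trans Quad.hypZeroEquiv) fun v => by
      rw [← Quad.minusEquiv_spec]
      simp [Quad.hypForm_apply, Quad.hypZeroEquiv]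
  haveI : Finite (Quad.Orth (Quad.binForm a b)) := Finite.of_equiv _ E.toEquiv
  let coords : QuadraticAlgebra F (-b) a → (Fin 2 → F) := fun z => ![z.re, z.im]
  have hnorm : ∀ z : QuadraticAlgebra F (-b) a, Quad.binForm a b (coords z) = z.norm := fun z => by
    simp [coords, Quad.binForm_apply, QuadraticAlgebra.norm_def]; ring
  set N := (Units.map (QuadraticAlgebra.norm (R := F) (a := -b) (b := a))).ker with hN
  have hmem : ∀ z : N, QuadraticAlgebra.norm ((z : (QuadraticAlgebra F (-b) a)ˣ) : QuadraticAlgebra F (-b) a) = 1 :=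
    fun z => congrArg Units.val (show Units.map _ (z : (QuadraticAlgebra F (-b) a)ˣ) = 1 from z.2)
  haveI : Finite (QuadraticAlgebra F (-b) a) := Finite.of_equiv _ (QuadraticAlgebra.equivProd (-b) a).symm
  haveI : IsCyclic N := isCyclic_of_subgroup_isDomain
    ((Units.coeHom (QuadraticAlgebra F (-b) a)).comp N.subtype)
    (Units.val_injective.comp N.subtype_injective)
  have hcardN : Nat.card N = q + 1 := by
    rw [← hF, ← Quad.card_level_binForm hab one_ne_zero]
    refine Nat.card_eq_of_bijective (fun z => ⟨coords z.1.1, by rw [hnorm, hmem]⟩) ⟨fun z w h => ?_, ?_⟩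
    · have h1 := congrArg Subtype.val h
      refine Subtype.ext (Units.ext (QuadraticAlgebra.ext ?_ ?_))
      · exact congrFun h1 0
      · exact congrFun h1 1
    · rintro ⟨v, hv⟩
      let z : QuadraticAlgebra F (-b) a := ⟨v 0, v 1⟩
      have hz : z.norm = 1 := by
        rw [← hnorm, show coords z = v from funext fun i => by fin_cases i <;> rfl]
        exact hv
      have hz0 : z ≠ 0 := fun h => by rw [h] at hz; simp at hz
      refine ⟨⟨Units.mk0 z hz0, MonoidHom.mem_ker.2 (Units.ext hz)⟩, Subtype.ext ?_⟩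
      funext i; fin_cases i <;> rfl
  have hbinj : ∀ z : N, Function.Injective (Quad.binMul a b (coords z.1.1)) := fun z => by
    rw [← LinearMap.ker_eq_bot, eq_bot_iff]
    intro x hx
    refine Quad.binForm_eq_zero hab ?_
    have h := Quad.binForm_binMul a b (coords z.1.1) x
    rw [LinearMap.mem_ker.1 hx, QuadraticMap.map_zero, hnorm, hmem, one_mul] at h
    exact h.symm
  let ρ : N →* Quad.Orth (Quad.binForm a b) :=
    MonoidHom.mk' (fun z => ⟨LinearEquiv.ofInjectiveEndo _ (hbinj z), fun x => by
      rw [LinearEquiv.coe_ofInjectiveEndo, Quad.binForm_binMul, hnorm, hmem, one_mul]⟩)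
      fun z w => Quad.orth_ext fun x => by
        rw [Quad.mul_apply]
        show Quad.binMul a b (coords (z.1.1 * w.1.1)) x =
          Quad.binMul a b (coords z.1.1) (Quad.binMul a b (coords w.1.1) x)
        funext i
        fin_cases i <;> simp [Quad.binMul, coords] <;> ring
  have hρ1 : ∀ z : N, (ρ z).1 ![1, 0] = coords z.1.1 := fun z => by
    show Quad.binMul a b (coords z.1.1) ![1, 0] = _
    funext i; fin_cases i <;> simp [Quad.binMul, coords]
  have hρinj : Function.Injective ρ := fun z w h => by
    have h1 := congrArg (fun g : Quad.Orth (Quad.binForm a b) => g.1 ![1, 0]) h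
    simp only [hρ1] at h1
    refine Subtype.ext (Units.ext (QuadraticAlgebra.ext ?_ ?_))
    · exact congrFun h1 0
    · exact congrFun h1 1
  let σf : (Fin 2 → F) →ₗ[F] Fin 2 → F :=
    { toFun := fun w => ![w 0 + a * w 1, -(w 1)]
      map_add' := fun x y => by funext i; fin_cases i <;> simp <;> ring
      map_smul' := fun c x => by funext i; fin_cases i <;> simp <;> ring }
  have hσσ : ∀ w, σf (σf w) = w := fun w => by
    funext i; fin_cases i <;> simp [σf]
  let σ : Quad.Orth (Quad.binForm a b) :=
    ⟨LinearEquiv.ofLinear σf σf (LinearMap.ext hσσ) (LinearMap.ext hσσ), fun x => by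
      simp [σf, Quad.binForm_apply]; ring⟩
  obtain ⟨z, hz⟩ := IsCyclic.exists_generator (α := N)
  obtain ⟨e⟩ := nonempty_dihedral_of_card (m := q + 1) (a := ρ z) (b := σ) (by omega)
    (by rw [orderOf_injective _ hρinj, orderOf_eq_card_of_forall_mem_zpowers hz, hcardN])
    (Quad.orth_ext fun x => by rw [Quad.mul_apply, Quad.one_apply]; exact hσσ x)
    (by
      rw [mul_inv_eq_iff_eq_mul, eq_inv_mul_iff_mul_eq]
      refine Quad.orth_ext fun x => ?_
      rw [Quad.mul_apply, Quad.mul_apply]
      show Quad.binMul a b (coords z.1.1) (σf (Quad.binMul a b (coords z.1.1) x)) = σf x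
      have hn := hmem z
      rw [QuadraticAlgebra.norm_def] at hn
      funext i
      fin_cases i <;> simp [Quad.binMul, σf, coords]
      · linear_combination (x 0 + a * x 1) * hn
      · linear_combination (-(x 1)) * hn)
    (by
      rintro ⟨k, hk⟩
      have hk' : ρ (z ^ k) = σ := by rw [map_zpow]; exact hk
      have h1 := congrArg (fun g : Quad.Orth (Quad.binForm a b) => g.1 ![1, 0]) hk'
      have h2 : z ^ k = 1 := by
        refine hρinj ?_
        have h3 : coords (z ^ k).1.1 = ![1, 0] := by
          rw [← hρ1, hk']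
          funext i; fin_cases i <;> simp [σ, σf]
        refine congrArg ρ (Subtype.ext (Units.ext (QuadraticAlgebra.ext ?_ ?_)))
        · exact congrFun h3 0
        · exact congrFun h3 1
      rw [h2, map_one] at hk'
      have h3 := congrArg (fun g : Quad.Orth (Quad.binForm a b) => g.1 ![0, 1]) hk'
      simp only [Quad.one_apply] at h3
      have e0 : (0 : F) = a := by simpa [σ, σf] using congrFun h3 0
      have e1 : (1 : F) = -1 := by simpa [σ, σf] using congrFun h3 1
      exact hab.disc (by rw [← e0]; linear_combination (2 * b) * e1))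
    (by rw [Quad.card_orth_binForm hab, hF])
  exact ⟨E.trans e⟩

end CfsgLib.Classical.SmallIso
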