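import Cfsg.Agent.Lib.Classical.SmallIso.Core
import Cfsg.Agent.Lib.Linear.Transvection
import Cfsg.Agent.Lib.Linear.Card
import Cfsg.Agent.Lib.Linear.SL2

/-!
`PΩ₃(q) ≅ PSL₂(q)` for odd `q`, through conjugation on the trace-zero matrices.
-/

set_option autoImplicit false

namespace CfsgLib.Classical.SmallIso

open Matrix
open scoped commutatorElement

variable (F : Type*) [Field F]

/-- Coordinates of the trace-zero `2 × 2` matrices. -/
def traceZeroMat : (Unit ⊕ (Fin 1 ⊕ Fin 1) → F) →ₗ[F] Matrix (Fin 2) (Fin 2) F where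
  toFun v := !![v (.inl ()), v (.inr (.inl 0)); v (.inr (.inr 0)), -v (.inl ())]
  map_add' u v := by ext i j; fin_cases i <;> fin_cases j <;> simp <;> ring
  map_smul' c v := by ext i j; fin_cases i <;> fin_cases j <;> simp

/-- Reading off the coordinates. -/
def traceZeroCoord : Matrix (Fin 2) (Fin 2) F →ₗ[F] (Unit ⊕ (Fin 1 ⊕ Fin 1) → F) where
  toFun X := Sum.elim (fun _ => X 0 0) (Sum.elim (fun _ => X 0 1) (fun _ => X 1 0))
  map_add' X Y := by funext i; rcases i with i | i | i <;> simp
  map_smul' c X := by funext i; rcases i with i | i | i <;> simp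

variable {F}

theorem traceZeroCoord_mat (v : Unit ⊕ (Fin 1 ⊕ Fin 1) → F) :
    traceZeroCoord F (traceZeroMat F v) = v := by
  funext i
  rcases i with i | i | i
  · simp [traceZeroCoord, traceZeroMat]
  all_goals fin_cases i; simp [traceZeroCoord, traceZeroMat]

theorem traceZeroMat_coord {X : Matrix (Fin 2) (Fin 2) F} (h : X.trace = 0) :
    traceZeroMat F (traceZeroCoord F X) = X := by
  rw [Matrix.trace_fin_two] at h
  ext i j
  fin_cases i <;> fin_cases j <;> simp [traceZeroCoord, traceZeroMat]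
  linear_combination -h

theorem trace_traceZeroMat (v : Unit ⊕ (Fin 1 ⊕ Fin 1) → F) : (traceZeroMat F v).trace = 0 := by
  simp [Matrix.trace_fin_two, traceZeroMat]

theorem det_traceZeroMat (v : Unit ⊕ (Fin 1 ⊕ Fin 1) → F) :
    (traceZeroMat F v).det = -Cfsg.quadFormOdd 1 F v := by
  simp [Matrix.det_fin_two, traceZeroMat, Cfsg.quadFormOdd]
  ring

/-- Conjugation on trace-zero matrices, in coordinates. -/
def adjoint2 : GL (Fin 2) F →* Module.End F (Unit ⊕ (Fin 1 ⊕ Fin 1) → F) where
  toFun g := (traceZeroCoord F).comp ((LinearMap.mulLeft F (g : Matrix (Fin 2) (Fin 2) F)).comp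
    ((LinearMap.mulRight F ((g⁻¹ : GL (Fin 2) F) : Matrix (Fin 2) (Fin 2) F)).comp (traceZeroMat F)))
  map_one' := LinearMap.ext fun v => by simp [traceZeroCoord_mat]
  map_mul' g h := LinearMap.ext fun v => by
    simp only [Module.End.mul_apply, LinearMap.comp_apply, LinearMap.mulLeft_apply,
      LinearMap.mulRight_apply]
    rw [traceZeroMat_coord (X := (h : Matrix (Fin 2) (Fin 2) F) * _)]
    · simp [mul_assoc, _root_.mul_inv_rev]
    · rw [← mul_assoc, Matrix.trace_mul_cycle, Units.inv_mul, one_mul, trace_traceZeroMat]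

theorem adjoint2_apply (g : GL (Fin 2) F) (v : Unit ⊕ (Fin 1 ⊕ Fin 1) → F) :
    traceZeroMat F (adjoint2 g v) = (g : Matrix (Fin 2) (Fin 2) F) * (traceZeroMat F v *
      ((g⁻¹ : GL (Fin 2) F) : Matrix (Fin 2) (Fin 2) F)) := by
  refine traceZeroMat_coord ?_
  simp only [LinearMap.comp_apply, LinearMap.mulLeft_apply, LinearMap.mulRight_apply]
  rw [← mul_assoc, Matrix.trace_mul_cycle, Units.inv_mul, one_mul, trace_traceZeroMat]

theorem adjoint2_Q (g : GL (Fin 2) F) (v : Unit ⊕ (Fin 1 ⊕ Fin 1) → F) :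
    Cfsg.quadFormOdd 1 F (adjoint2 g v) = Cfsg.quadFormOdd 1 F v := by
  apply neg_injective
  rw [← det_traceZeroMat, ← det_traceZeroMat, adjoint2_apply, ← mul_assoc, Matrix.det_mul,
    Matrix.det_mul, mul_right_comm, ← Matrix.det_mul, Units.mul_inv, Matrix.det_one, one_mul]

/-- `SL₂` acting on the trace-zero matrices. -/
noncomputable def slToO3 : Matrix.SpecialLinearGroup (Fin 2) F →* Cfsg.isometryGroup F (Cfsg.quadFormOdd 1 F) :=
  (homOfEnd adjoint2 adjoint2_Q).comp Matrix.SpecialLinearGroup.toGL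

theorem comm_of_mem_ker {g : Matrix.SpecialLinearGroup (Fin 2) F} (h : g ∈ (slToO3 (F := F)).ker)
    (v : Unit ⊕ (Fin 1 ⊕ Fin 1) → F) :
    (g : Matrix (Fin 2) (Fin 2) F) * traceZeroMat F v =
      traceZeroMat F v * (g : Matrix (Fin 2) (Fin 2) F) := by
  have h1 : Matrix.SpecialLinearGroup.toGL g ∈ (homOfEnd adjoint2 (adjoint2_Q (F := F))).ker := h
  have h2 := congrArg (traceZeroMat F) ((mem_ker_homOfEnd _ _ _).1 h1 v)
  rw [adjoint2_apply, ← mul_assoc] at h2
  conv_rhs => rw [← h2]
  rw [mul_assoc, show ((g : Matrix (Fin 2) (Fin 2) F)) = ((Matrix.SpecialLinearGroup.toGL g : GL (Fin 2) F) :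
    Matrix (Fin 2) (Fin 2) F) from rfl, Units.inv_mul, mul_one]

theorem ker_slToO3 : (slToO3 (F := F)).ker = Subgroup.center (Matrix.SpecialLinearGroup (Fin 2) F) := by
  ext g
  constructor
  · intro h
    rw [Matrix.SpecialLinearGroup.mem_center_iff]
    have h1 := comm_of_mem_ker h (Sum.elim (fun _ => 0) (Sum.elim (fun _ => 1) (fun _ => 0)))
    have h2 := comm_of_mem_ker h (Sum.elim (fun _ => 0) (Sum.elim (fun _ => 0) (fun _ => 1)))
    have a00 := congrFun (congrFun h1 0) 0
    have a01 := congrFun (congrFun h1 0) 1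
    have b00 := congrFun (congrFun h2 0) 0
    simp [traceZeroMat, Matrix.mul_apply, Fin.sum_univ_two] at a00 a01 b00
    have hd := CfsgLib.Linear.SL2_det_eq g
    rw [← a00, b00] at hd
    refine ⟨g.1 0 0, ?_, ?_⟩
    · simp only [Fintype.card_fin]
      linear_combination hd + g.1 0 0 * a01
    · ext i j
      fin_cases i <;> fin_cases j <;> simp [b00, ← a00, ← a01]
  · intro h
    refine (mem_ker_homOfEnd adjoint2 adjoint2_Q _).2 fun v => ?_
    obtain ⟨r, hr, hg⟩ := Matrix.SpecialLinearGroup.mem_center_iff.1 h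
    apply (Function.LeftInverse.injective (traceZeroCoord_mat (F := F)))
    rw [adjoint2_apply, ← mul_assoc]
    have hc : (g : Matrix (Fin 2) (Fin 2) F) * traceZeroMat F v =
        traceZeroMat F v * (g : Matrix (Fin 2) (Fin 2) F) := by
      rw [← hg]
      exact (Matrix.scalar_commute r (fun r' => Commute.all r r') _).eq
    show (g : Matrix (Fin 2) (Fin 2) F) * _ * _ = _
    rw [hc, mul_assoc, show ((g : Matrix (Fin 2) (Fin 2) F)) = ((Matrix.SpecialLinearGroup.toGL g : GL (Fin 2) F) :
      Matrix (Fin 2) (Fin 2) F) from rfl, Units.mul_inv, mul_one]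

/-- An element of `SL₂` which is central modulo the centre is central, in odd characteristic. -/
theorem mem_center_SL2_of_commutator (h2 : (2 : F) ≠ 0) {g : Matrix.SpecialLinearGroup (Fin 2) F}
    (hg : ∀ h, ⁅g, h⁆ ∈ Subgroup.center (Matrix.SpecialLinearGroup (Fin 2) F)) :
    g ∈ Subgroup.center (Matrix.SpecialLinearGroup (Fin 2) F) := by
  have key : ∀ h : Matrix.SpecialLinearGroup (Fin 2) F,
      (g * h * g⁻¹).1 0 0 + (g * h * g⁻¹).1 1 1 = h.1 0 0 + h.1 1 1 := fun h => by
    rw [← Matrix.trace_fin_two, ← Matrix.trace_fin_two, show (g * h * g⁻¹).1 = g.1 * h.1 * g⁻¹.1 from rfl,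
      Matrix.trace_mul_cycle, show g⁻¹.1 * g.1 = 1 from congrArg Subtype.val (inv_mul_cancel g),
      one_mul]
  -- a root element is fixed, its trace being non-zero
  have hu : ∀ {i j : Fin 2} (hij : i ≠ j), g * Matrix.SpecialLinearGroup.transvection hij (1 : F) =
      Matrix.SpecialLinearGroup.transvection hij (1 : F) * g := by
    intro i j hij
    set u := Matrix.SpecialLinearGroup.transvection hij (1 : F)
    obtain ⟨r, hr, hz⟩ := Matrix.SpecialLinearGroup.mem_center_iff.1 (hg u)
    have htr : u.1 0 0 + u.1 1 1 = 2 := by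
      fin_cases i <;> fin_cases j <;> simp at hij <;>
        simp [u, Matrix.SpecialLinearGroup.transvection, Matrix.transvection, one_add_one_eq_two]
    have h1 : (g * u * g⁻¹).1 = Matrix.scalar (Fin 2) r * u.1 := by
      rw [hz, ← Matrix.SpecialLinearGroup.coe_mul]
      simp [commutatorElement_def]
    have h3 := key u
    rw [h1, htr] at h3
    simp at h3
    have hr1 : r = 1 := mul_left_cancel₀ h2 (by linear_combination h3 - r * htr)
    refine mul_inv_eq_iff_eq_mul.1 (Subtype.ext ?_)
    rw [h1, hr1, map_one, one_mul]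
  rw [Matrix.SpecialLinearGroup.mem_center_iff]
  have t : ∀ {i j : Fin 2} (hij : i ≠ j), (Matrix.SpecialLinearGroup.transvection hij (1 : F)).1 =
      Matrix.transvection i j 1 := fun _ => rfl
  have e1 := congrArg Subtype.val (hu (show (0 : Fin 2) ≠ 1 by decide))
  have e2 := congrArg Subtype.val (hu (show (1 : Fin 2) ≠ 0 by decide))
  rw [Matrix.SpecialLinearGroup.coe_mul, Matrix.SpecialLinearGroup.coe_mul, t] at e1 e2
  have a00 := congrFun (congrFun e1 0) 0
  have a01 := congrFun (congrFun e1 0) 1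
  have b00 := congrFun (congrFun e2 0) 0
  simp [Matrix.transvection, Matrix.mul_apply, Fin.sum_univ_two] at a00 a01 b00
  have hd := CfsgLib.Linear.SL2_det_eq g
  refine ⟨g.1 0 0, ?_, ?_⟩
  · simp only [Fintype.card_fin]
    linear_combination hd + g.1 0 0 * a01 + g.1 1 0 * b00
  · ext i j
    fin_cases i <;> fin_cases j <;> simp [← a00, b00] <;> linear_combination a01

variable [Fintype F]

theorem nonempty_pomega3_equiv (hodd : Odd (Fintype.card F)) :
    Nonempty (Cfsg.POmega F (Cfsg.quadFormOdd 1 F) ≃* ProjectiveSpecialLinearGroup (Fin 2) F) := by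
  have h2 : (2 : F) ≠ 0 := CfsgLib.Linear.two_ne_zero_of_odd_card hodd
  refine nonempty_central_quotient_equiv (slToO3 (F := F)) ?_ ?_ ?_
  · rintro _ ⟨g, rfl⟩
    have hg : Matrix.SpecialLinearGroup.toGL g ∈ commutator (GL (Fin 2) F) := by
      rw [CfsgLib.Linear.commutator_GL_eq_ker_det fun _ => ⟨-1, by simp, fun h => h2 (by linear_combination -h)⟩,
        ← CfsgLib.Linear.range_toGL_eq_ker_det]
      exact ⟨g, rfl⟩
    have h1 := Subgroup.mem_map_of_mem (homOfEnd adjoint2 (adjoint2_Q (F := F))) hg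
    rw [commutator_def, Subgroup.map_commutator] at h1
    exact Subgroup.commutator_mono le_top le_top h1
  · rw [ker_slToO3, CfsgLib.Linear.card_center_SL, CfsgLib.Linear.card_SL_two, Fintype.card_fin]
    have h := four_mul_card_omega_odd_le h2 (le_refl 1)
    rw [card_isometryGroup_odd h2, Nat.card_eq_fintype_card (α := F)] at h
    simp only [one_pow, pow_one, Finset.prod_range_one, zero_add, mul_one] at h
    rw [Nat.odd_iff] at hodd
    rw [Nat.gcd_comm, Nat.gcd_eq_left (show 2 ∣ Fintype.card F - 1 by omega)]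
    rw [mul_assoc 2] at h
    omega
  · intro g hg
    rw [ker_slToO3] at hg
    exact mem_center_SL2_of_commutator h2 hg

end CfsgLib.Classical.SmallIso
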