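import Cfsg.Agent.Lib.Classical.Herm.Field
import Cfsg.Agent.Lib.Classical.Quad.Model
import Mathlib.Algebra.QuadraticAlgebra.Basic

/-!
A field with `q²` elements as a quadratic extension of a field with `q` elements, in coordinates
adapted to an anisotropic binary form `z₁² + a z₁ z₂ + b z₂²`.
-/

set_option autoImplicit false

namespace CfsgLib.Classical.SmallIso

open Herm

variable {F K : Type*} [Field F] [Fintype F] [Field K] [Fintype K] {q : ℕ}

/-- Coordinates of `K` over `F`. -/
structure QuadCoord (F K : Type*) [Field F] [Field K] (σ : K →+* K) (a b : F) where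
  /-- The embedding. -/
  emb : F →+* K
  /-- The generator. -/
  gen : K
  /-- The coordinates. -/
  coord : K → F × F
  coord_spec : ∀ z, emb (coord z).1 + emb (coord z).2 * gen = z
  coord_emb : ∀ x y, coord (emb x + emb y * gen) = (x, y)
  sigma_emb : ∀ x, σ (emb x) = emb x
  sigma_gen : σ gen = emb a - gen
  gen_mul : gen * σ gen = emb b

theorem exists_quadCoord (hF : Fintype.card F = q) (hK : Fintype.card K = q ^ 2) (a b : F)
    (hab : Quad.IsAniso a b) : Nonempty (QuadCoord F K (qPow hK) a b) := by
  classical
  haveI : Fact (∀ r : F, r ^ 2 ≠ -b + a * r) := ⟨fun r hr => by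
    have h := hab (-r) 1 (by linear_combination hr)
    exact one_ne_zero h.2⟩
  letI : Fintype (QuadraticAlgebra F (-b) a) :=
    Fintype.ofEquiv _ (QuadraticAlgebra.equivProd (-b) a).symm
  have hcard : Fintype.card (QuadraticAlgebra F (-b) a) = Fintype.card K := by
    rw [Fintype.card_congr (QuadraticAlgebra.equivProd (-b) a), Fintype.card_prod, hF, hK, pow_two]
  let e := FiniteField.ringEquivOfCardEq hcard
  let emb : F →+* K := e.toRingHom.comp (algebraMap F (QuadraticAlgebra F (-b) a))
  let w : QuadraticAlgebra F (-b) a := ⟨0, 1⟩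
  have hemb : ∀ x y : F, emb x + emb y * e w = e (⟨x, y⟩ : QuadraticAlgebra F (-b) a) := by
    intro x y
    show e (algebraMap F (QuadraticAlgebra F (-b) a) x) + e (algebraMap F (QuadraticAlgebra F (-b) a) y) * e w = _
    rw [← map_mul, ← map_add]
    congr 1
    ext <;> simp [w, ← QuadraticAlgebra.C_eq_algebraMap]
  have hfix : ∀ x, qPow hK (emb x) = emb x := fun x => by
    rw [qPow_apply, ← map_pow, ← hF, FiniteField.pow_card]
  have hroot : e w * e w - emb a * e w + emb b = 0 := by
    have h : w * w - algebraMap F (QuadraticAlgebra F (-b) a) a * w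
        + algebraMap F (QuadraticAlgebra F (-b) a) b = 0 := by
      ext <;> simp [w, ← QuadraticAlgebra.C_eq_algebraMap]
    simpa [emb] using congrArg e h
  have hroot' : qPow hK (e w) * qPow hK (e w) - emb a * qPow hK (e w) + emb b = 0 := by
    have h := congrArg (qPow hK) hroot
    rwa [map_add, map_sub, map_mul, map_mul, hfix, hfix, map_zero] at h
  have hne : qPow hK (e w) ≠ e w := by
    intro h
    obtain ⟨z, hz⟩ := exists_qPow_ne hK
    apply hz
    obtain ⟨y, rfl⟩ := e.surjective z
    obtain ⟨y0, y1⟩ := y
    rw [← hemb, map_add, map_mul, hfix, hfix, h]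
  have hsig : qPow hK (e w) = emb a - e w := by
    have h : (qPow hK (e w) - e w) * (qPow hK (e w) + e w - emb a) = 0 := by
      linear_combination hroot' - hroot
    have h' := (mul_eq_zero.1 h).resolve_left (sub_ne_zero.2 hne)
    linear_combination h'
  exact ⟨{
    emb := emb
    gen := e w
    coord := fun z => ((e.symm z).re, (e.symm z).im)
    coord_spec := fun z => by rw [hemb]; exact e.apply_symm_apply z
    coord_emb := fun x y => by rw [hemb]; simp
    sigma_emb := hfix
    sigma_gen := hsig
    gen_mul := by rw [hsig]; linear_combination -hroot }⟩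

namespace QuadCoord

variable {a b : F} {σ : K →+* K} (C : QuadCoord F K σ a b)

omit [Fintype F] [Fintype K] in
theorem emb_fst_of_fixed {z : K} (hz : σ z = z) (h0 : C.emb (2 : F) ≠ 0 ∨ C.emb a ≠ 0) :
    C.emb (C.coord z).1 = z := by
  have h1 := hz
  rw [← C.coord_spec z, map_add, map_mul, C.sigma_emb, C.sigma_emb, C.sigma_gen] at h1
  have h2 : C.emb (C.coord z).2 * (C.emb a - C.gen - C.gen) = 0 := by linear_combination h1
  rcases mul_eq_zero.1 h2 with h3 | h3
  · nth_rewrite 2 [← C.coord_spec z]
    rw [h3, zero_mul, add_zero]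
  · exfalso
    have hg : C.emb (2 : F) * C.gen = C.emb a := by rw [map_ofNat]; linear_combination -h3
    by_cases ht : C.emb (2 : F) = 0
    · rw [ht, zero_mul] at hg
      exact h0.elim (fun h => h ht) (fun h => h hg.symm)
    · have h4 : C.gen = C.emb (a / 2) := by
        rw [map_div₀, eq_div_iff ht, mul_comm, hg]
      have h5 := C.coord_emb 0 1
      rw [map_zero, map_one, zero_add, one_mul, h4] at h5
      have h6 := C.coord_emb (a / 2) 0
      rw [map_zero, zero_mul, add_zero] at h6
      rw [h6] at h5
      exact one_ne_zero (congrArg Prod.snd h5).symm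

omit [Fintype K] in
theorem disc_ne (hab : Quad.IsAniso a b) : C.emb (2 : F) ≠ 0 ∨ C.emb a ≠ 0 := by
  by_contra! h
  apply hab.disc
  have h2 : (2 : F) = 0 := (map_eq_zero C.emb).1 h.1
  rw [(map_eq_zero C.emb).1 h.2]
  linear_combination (2 * b) * h2

omit [Fintype F] [Fintype K] in
theorem norm_eq (x y : F) : (C.emb x + C.emb y * C.gen) * σ (C.emb x + C.emb y * C.gen)
    = C.emb (x * x + a * x * y + b * (y * y)) := by
  have h := C.gen_mul
  rw [C.sigma_gen] at h
  simp only [map_add, map_mul, C.sigma_emb, C.sigma_gen]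
  linear_combination (C.emb y * C.emb y) * h

end QuadCoord

end CfsgLib.Classical.SmallIso
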