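import Cfsg.Agent.Lib.Classical.SmallIso.Core
import Cfsg.Agent.Lib.Classical.SmallIso.QuadExt
import Cfsg.Agent.Lib.Linear.Simple
import Cfsg.Agent.Lib.Linear.Card

/-!
`PΩ⁻₄(q) ≅ PSL₂(q²)`, through the action on Hermitian `2 × 2` matrices.
-/

set_option autoImplicit false

namespace CfsgLib.Classical.SmallIso

open Matrix Herm

variable {F K : Type*} [Field F] [Field K] {σ : K →+* K} {a b : F}
  (C : QuadCoord F K σ a b)

/-- The Hermitian matrix of a vector. -/
def hermMat (v : (Fin 1 ⊕ Fin 1) ⊕ Fin 2 → F) : Matrix (Fin 2) (Fin 2) K :=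
  !![C.emb (v (.inl (.inl 0))), C.emb (v (.inr 0)) + C.emb (v (.inr 1)) * C.gen;
     C.emb (v (.inr 0)) + C.emb (v (.inr 1)) * σ C.gen, -C.emb (v (.inl (.inr 0)))]

/-- The coordinates of a Hermitian matrix. -/
def hermCoord (X : Matrix (Fin 2) (Fin 2) K) : (Fin 1 ⊕ Fin 1) ⊕ Fin 2 → F :=
  Sum.elim (Sum.elim (fun _ => (C.coord (X 0 0)).1) (fun _ => (C.coord (-(X 1 1))).1))
    ![(C.coord (X 0 1)).1, (C.coord (X 0 1)).2]

theorem coord_emb_fst (x : F) : (C.coord (C.emb x)).1 = x := by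
  have h := C.coord_emb x 0
  rw [map_zero, zero_mul, add_zero] at h
  rw [h]

theorem hermCoord_mat (v : (Fin 1 ⊕ Fin 1) ⊕ Fin 2 → F) : hermCoord C (hermMat C v) = v := by
  funext i
  rcases i with (i | i) | i <;> fin_cases i <;>
    simp [hermCoord, hermMat, coord_emb_fst, C.coord_emb]

theorem hermMat_inj {v w : (Fin 1 ⊕ Fin 1) ⊕ Fin 2 → F} (h : hermMat C v = hermMat C w) : v = w := by
  rw [← hermCoord_mat C v, h, hermCoord_mat]

theorem hermMat_add (v w : (Fin 1 ⊕ Fin 1) ⊕ Fin 2 → F) :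
    hermMat C (v + w) = hermMat C v + hermMat C w := by
  ext i j
  fin_cases i <;> fin_cases j <;> simp [hermMat] <;> ring

theorem hermMat_smul (c : F) (v : (Fin 1 ⊕ Fin 1) ⊕ Fin 2 → F) :
    hermMat C (c • v) = C.emb c • hermMat C v := by
  ext i j
  fin_cases i <;> fin_cases j <;> simp [hermMat] <;> ring

theorem det_hermMat (v : (Fin 1 ⊕ Fin 1) ⊕ Fin 2 → F) :
    (hermMat C v).det = -C.emb (Cfsg.quadFormMinus 1 F a b v) := by
  have h := C.norm_eq (v (.inr 0)) (v (.inr 1))
  rw [map_add σ, map_mul σ, C.sigma_emb, C.sigma_emb] at h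
  simp only [hermMat, Matrix.det_fin_two_of, Cfsg.quadFormMinus, Fin.sum_univ_one, map_add, map_mul,
    map_pow] at h ⊢
  linear_combination -h

variable (hσ : ∀ z, σ (σ z) = z)

include hσ in
theorem map_hermMat (v : (Fin 1 ⊕ Fin 1) ⊕ Fin 2 → F) :
    ((hermMat C v).map σ)ᵀ = hermMat C v := by
  ext i j
  fin_cases i <;> fin_cases j <;> simp [hermMat, C.sigma_emb, hσ]

theorem hermMat_coord [Fintype F] (hab : Quad.IsAniso a b) {X : Matrix (Fin 2) (Fin 2) K}
    (hX : (X.map σ)ᵀ = X) : hermMat C (hermCoord C X) = X := by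
  have h00 : σ (X 0 0) = X 0 0 := congrFun (congrFun hX 0) 0
  have h11 : σ (X 1 1) = X 1 1 := congrFun (congrFun hX 1) 1
  have h10 : σ (X 0 1) = X 1 0 := congrFun (congrFun hX 1) 0
  ext i j
  fin_cases i <;> fin_cases j
  · simp [hermMat, hermCoord, C.emb_fst_of_fixed h00 (C.disc_ne hab)]
  · simp [hermMat, hermCoord, C.coord_spec]
  · show C.emb _ + C.emb _ * σ C.gen = X 1 0
    rw [← h10]
    conv_rhs => rw [← C.coord_spec (X 0 1), map_add, map_mul, C.sigma_emb, C.sigma_emb]
    simp [hermCoord]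
  · simp [hermMat, hermCoord, C.emb_fst_of_fixed (z := -(X 1 1)) (by rw [map_neg, h11]) (C.disc_ne hab)]

include hσ in
theorem map_conj (A : Matrix (Fin 2) (Fin 2) K) (v : (Fin 1 ⊕ Fin 1) ⊕ Fin 2 → F) :
    ((A * hermMat C v * (A.map σ)ᵀ).map σ)ᵀ = A * hermMat C v * (A.map σ)ᵀ := by
  have hA : (A.map σ).map σ = A := by ext i j; simp [hσ]
  rw [Matrix.map_mul, Matrix.map_mul, Matrix.transpose_mul, Matrix.transpose_mul, map_hermMat C hσ,
    ← Matrix.transpose_map, Matrix.transpose_transpose, hA, mul_assoc]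

/-- `SL₂(K)` on Hermitian matrices. -/
def hermConj [Fintype F] (hab : Quad.IsAniso a b) :
    Matrix.SpecialLinearGroup (Fin 2) K →* Module.End F ((Fin 1 ⊕ Fin 1) ⊕ Fin 2 → F) where
  toFun A :=
    { toFun := fun v => hermCoord C (A.1 * hermMat C v * (A.1.map σ)ᵀ)
      map_add' := fun v w => hermMat_inj C (by
        rw [hermMat_coord C hab (map_conj C hσ _ _), hermMat_add C v w, hermMat_add,
          hermMat_coord C hab (map_conj C hσ _ _), hermMat_coord C hab (map_conj C hσ _ _), mul_add,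
          add_mul])
      map_smul' := fun c v => hermMat_inj C (by
        rw [hermMat_coord C hab (map_conj C hσ _ _), RingHom.id_apply, hermMat_smul, hermMat_smul,
          hermMat_coord C hab (map_conj C hσ _ _), Matrix.mul_smul, Matrix.smul_mul]) }
  map_one' := LinearMap.ext fun v => by
    show hermCoord C _ = v
    simp [hermCoord_mat]
  map_mul' A B := LinearMap.ext fun v => by
    apply hermMat_inj C
    show hermMat C (hermCoord C _) = hermMat C (hermCoord C _)
    rw [hermMat_coord C hab (map_conj C hσ _ _)]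
    show _ = hermMat C (hermCoord C (A.1 * hermMat C (hermCoord C _) * _))
    rw [hermMat_coord C hab (map_conj C hσ _ _)]
    show _ = A.1 * hermMat C (hermCoord C _) * _
    rw [hermMat_coord C hab (map_conj C hσ _ _), Matrix.SpecialLinearGroup.coe_mul, Matrix.map_mul,
      Matrix.transpose_mul]
    simp only [mul_assoc]

theorem hermMat_hermConj [Fintype F] (hab : Quad.IsAniso a b) (A : Matrix.SpecialLinearGroup (Fin 2) K)
    (v : (Fin 1 ⊕ Fin 1) ⊕ Fin 2 → F) :
    hermMat C (hermConj C hσ hab A v) = A.1 * hermMat C v * (A.1.map σ)ᵀ :=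
  hermMat_coord C hab (map_conj C hσ _ _)

theorem hermConj_Q [Fintype F] (hab : Quad.IsAniso a b) (A : Matrix.SpecialLinearGroup (Fin 2) K)
    (v : (Fin 1 ⊕ Fin 1) ⊕ Fin 2 → F) :
    Cfsg.quadFormMinus 1 F a b (hermConj C hσ hab A v) = Cfsg.quadFormMinus 1 F a b v := by
  apply C.emb.injective
  apply neg_injective
  rw [← det_hermMat, ← det_hermMat, hermMat_hermConj, Matrix.det_mul, Matrix.det_mul, A.2,
    Matrix.det_transpose, show A.1.map σ = σ.mapMatrix A.1 from rfl, ← σ.map_det, A.2, map_one,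
    one_mul, mul_one]

end CfsgLib.Classical.SmallIso

namespace CfsgLib.Classical.SmallIso

open Matrix Herm

variable {F K : Type*} [Field F] [Fintype F] [Field K] [Fintype K] {q : ℕ}

theorem nonempty_pomega4_minus_equiv (hF : Fintype.card F = q) (hK : Fintype.card K = q ^ 2)
    (a b : F) (hab : Quad.IsAniso a b) :
    Nonempty (Cfsg.POmega F (Cfsg.quadFormMinus 1 F a b) ≃* ProjectiveSpecialLinearGroup (Fin 2) K) := by
  classical
  have hq : 2 ≤ q := two_le_of_card hK
  obtain ⟨C⟩ := exists_quadCoord hF hK a b hab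
  set f := homOfEnd (hermConj C (qPow_qPow hK) hab) (hermConj_Q C (qPow_qPow hK) hab)
  have hcond : 3 ≤ Fintype.card (Fin 2) ∨ ∃ x : K, x ≠ 0 ∧ x ^ 2 ≠ 1 :=
    Or.inr (CfsgLib.Linear.exists_sq_ne_one_of_four_le_card (by
      rw [Nat.card_eq_fintype_card, hK]; exact Nat.pow_le_pow_left hq 2))
  have hker : f.ker ≤ Subgroup.center (Matrix.SpecialLinearGroup (Fin 2) K) := by
    refine (CfsgLib.Linear.SL_normal_le_center_or_eq_top hcond _).resolve_right fun htop => ?_
    have h1 : Matrix.SpecialLinearGroup.transvection (show (0 : Fin 2) ≠ 1 by decide) (1 : K) ∈ f.ker :=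
      htop ▸ Subgroup.mem_top _
    have h2 := congrArg (hermMat C) ((mem_ker_homOfEnd _ _ _).1 h1
      (Sum.elim (Sum.elim (fun _ => 0) (fun _ => 1)) ![0, 0]))
    rw [hermMat_hermConj] at h2
    rw [show (Matrix.SpecialLinearGroup.transvection (show (0 : Fin 2) ≠ 1 by decide) (1 : K)).1
      = Matrix.transvection 0 1 1 from rfl] at h2
    have h3 := congrFun (congrFun h2 0) 0
    simp [hermMat, Matrix.transvection, Matrix.mul_apply, Fin.sum_univ_two, Matrix.single_apply] at h3
  refine nonempty_central_quotient_equiv_perfect f (CfsgLib.Linear.commutator_SL_eq_top hcond) hker ?_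
  have hk : Nat.card f.ker ≤ 2 := by
    refine (Subgroup.card_le_of_le hker).trans ?_
    rw [CfsgLib.Linear.card_center_SL, Fintype.card_fin]
    exact Nat.le_of_dvd (by norm_num) (Nat.gcd_dvd_right _ _)
  refine (Nat.mul_le_mul_left _ hk).trans (le_of_eq ?_)
  rw [card_isometryGroup_minus hab, CfsgLib.Linear.card_SL_two, Nat.card_eq_fintype_card, hF, hK,
    Finset.prod_range_one]
  have e : (q ^ 2) ^ 2 - 1 = (q ^ 2 + 1) * (q ^ 2 - 1) := by
    have := Nat.sq_sub_sq (q ^ 2) 1
    simpa using this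
  rw [e]
  ring

end CfsgLib.Classical.SmallIso
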