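import Cfsg.Agent.Lib.Classical.SmallIso.O3

/-!
`PΩ⁺₄(q) ≅ PSL₂(q) × PSL₂(q)`, through the action on `2 × 2` matrices.
-/

set_option autoImplicit false

namespace CfsgLib.Classical.SmallIso

open Matrix
open scoped commutatorElement

variable (F : Type*) [Field F]

/-- Coordinates for `2 × 2` matrices with the determinant. -/
def twoMat : (Fin 2 ⊕ Fin 2 → F) →ₗ[F] Matrix (Fin 2) (Fin 2) F where
  toFun v := !![v (.inl 0), -v (.inl 1); v (.inr 1), v (.inr 0)]
  map_add' u v := by ext i j; fin_cases i <;> fin_cases j <;> simp <;> ring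
  map_smul' c v := by ext i j; fin_cases i <;> fin_cases j <;> simp

/-- Reading off the coordinates. -/
def twoCoord : Matrix (Fin 2) (Fin 2) F →ₗ[F] (Fin 2 ⊕ Fin 2 → F) where
  toFun X := Sum.elim ![X 0 0, -X 0 1] ![X 1 1, X 1 0]
  map_add' X Y := by funext i; rcases i with i | i <;> fin_cases i <;> simp <;> ring
  map_smul' c X := by funext i; rcases i with i | i <;> fin_cases i <;> simp

variable {F}

theorem twoCoord_mat (v : Fin 2 ⊕ Fin 2 → F) : twoCoord F (twoMat F v) = v := by
  funext i; rcases i with i | i <;> fin_cases i <;> simp [twoCoord, twoMat]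

theorem twoMat_coord (X : Matrix (Fin 2) (Fin 2) F) : twoMat F (twoCoord F X) = X := by
  ext i j; fin_cases i <;> fin_cases j <;> simp [twoCoord, twoMat]

theorem det_twoMat (v : Fin 2 ⊕ Fin 2 → F) : (twoMat F v).det = Cfsg.quadFormPlus 2 F v := by
  simp [twoMat, Matrix.det_fin_two, Cfsg.quadFormPlus, Fin.sum_univ_two]

/-- Two-sided multiplication. -/
def twoSided : GL (Fin 2) F × GL (Fin 2) F →* Module.End F (Fin 2 ⊕ Fin 2 → F) where
  toFun g := (twoCoord F).comp ((LinearMap.mulLeft F (g.1 : Matrix (Fin 2) (Fin 2) F)).comp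
    ((LinearMap.mulRight F ((g.2 : Matrix (Fin 2) (Fin 2) F))ᵀ).comp (twoMat F)))
  map_one' := LinearMap.ext fun v => by simp [twoCoord_mat]
  map_mul' g h := LinearMap.ext fun v => by
    simp [twoMat_coord, Matrix.transpose_mul, mul_assoc]

theorem twoMat_twoSided (g : GL (Fin 2) F × GL (Fin 2) F) (v : Fin 2 ⊕ Fin 2 → F) :
    twoMat F (twoSided g v) = (g.1 : Matrix (Fin 2) (Fin 2) F) * (twoMat F v *
      ((g.2 : Matrix (Fin 2) (Fin 2) F))ᵀ) :=
  twoMat_coord _

theorem twoSided_Q {g : GL (Fin 2) F × GL (Fin 2) F}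
    (hg : (g.1 : Matrix (Fin 2) (Fin 2) F).det * (g.2 : Matrix (Fin 2) (Fin 2) F).det = 1)
    (v : Fin 2 ⊕ Fin 2 → F) :
    Cfsg.quadFormPlus 2 F (twoSided g v) = Cfsg.quadFormPlus 2 F v := by
  rw [← det_twoMat, ← det_twoMat, twoMat_twoSided, Matrix.det_mul, Matrix.det_mul,
    Matrix.det_transpose]
  linear_combination (twoMat F v).det * hg

/-- The diagonal matrix correcting a determinant. -/
noncomputable def detFix : GL (Fin 2) F →* GL (Fin 2) F :=
  ({ toFun := fun g => Matrix.diagonal ![(((Matrix.GeneralLinearGroup.det g)⁻¹ : Fˣ) : F), 1]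
     map_one' := by
      rw [← Matrix.diagonal_one]
      congr 1
      funext i
      fin_cases i <;> simp
     map_mul' := fun g h => by
      rw [Matrix.diagonal_mul_diagonal]
      congr 1
      funext i
      fin_cases i <;> simp [mul_comm] } : GL (Fin 2) F →* Matrix (Fin 2) (Fin 2) F).toHomUnits

theorem det_detFix (g : GL (Fin 2) F) :
    (g : Matrix (Fin 2) (Fin 2) F).det * ((detFix g : GL (Fin 2) F) : Matrix (Fin 2) (Fin 2) F).det
      = 1 := by
  have h : ((detFix g : GL (Fin 2) F) : Matrix (Fin 2) (Fin 2) F).det =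
      ((Matrix.GeneralLinearGroup.det g)⁻¹ : Fˣ) := by
    simp [detFix, Matrix.det_diagonal, Fin.prod_univ_two]
  rw [h]
  exact Units.mul_inv (Matrix.GeneralLinearGroup.det g)

theorem detFix_toGL (A : Matrix.SpecialLinearGroup (Fin 2) F) :
    detFix (Matrix.SpecialLinearGroup.toGL A) = 1 := by
  have h : Matrix.GeneralLinearGroup.det (Matrix.SpecialLinearGroup.toGL A) = 1 :=
    Units.ext A.2
  apply Units.ext
  ext i j
  fin_cases i <;> fin_cases j <;> simp [detFix, h]

/-- `GL₂` acting on the left. -/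
noncomputable def leftHom : GL (Fin 2) F →* Cfsg.isometryGroup F (Cfsg.quadFormPlus 2 F) :=
  homOfEnd (twoSided.comp ((MonoidHom.id _).prod detFix)) fun g v => twoSided_Q (det_detFix g) v

/-- `GL₂` acting on the right. -/
noncomputable def rightHom : GL (Fin 2) F →* Cfsg.isometryGroup F (Cfsg.quadFormPlus 2 F) :=
  homOfEnd (twoSided.comp (detFix.prod (MonoidHom.id _))) fun g v =>
    twoSided_Q (g := (detFix g, g)) ((mul_comm _ _).trans (det_detFix g)) v

/-- `SL₂ × SL₂` acting on both sides. -/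
noncomputable def slPairHom : Matrix.SpecialLinearGroup (Fin 2) F × Matrix.SpecialLinearGroup (Fin 2) F →*
    Cfsg.isometryGroup F (Cfsg.quadFormPlus 2 F) :=
  homOfEnd (twoSided.comp (Matrix.SpecialLinearGroup.toGL.prodMap Matrix.SpecialLinearGroup.toGL))
    fun g v => twoSided_Q (g := (Matrix.SpecialLinearGroup.toGL g.1, Matrix.SpecialLinearGroup.toGL g.2))
      (show g.1.1.det * g.2.1.det = 1 by rw [g.1.2, g.2.2, one_mul]) v

theorem slPairHom_left (A : Matrix.SpecialLinearGroup (Fin 2) F) :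
    slPairHom (A, 1) = leftHom (Matrix.SpecialLinearGroup.toGL A) := by
  refine Subtype.ext (Units.ext (Matrix.toLinAlgEquiv'.injective (LinearMap.ext fun v => ?_)))
  rw [Matrix.toLinAlgEquiv'_apply, Matrix.toLinAlgEquiv'_apply]
  refine (homOfEnd_mulVec _ _ _ _).trans (Eq.trans ?_ (homOfEnd_mulVec _ _ _ _).symm)
  simp [MonoidHom.prod, detFix_toGL]

theorem slPairHom_right (A : Matrix.SpecialLinearGroup (Fin 2) F) :
    slPairHom (1, A) = rightHom (Matrix.SpecialLinearGroup.toGL A) := by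
  refine Subtype.ext (Units.ext (Matrix.toLinAlgEquiv'.injective (LinearMap.ext fun v => ?_)))
  rw [Matrix.toLinAlgEquiv'_apply, Matrix.toLinAlgEquiv'_apply]
  refine (homOfEnd_mulVec _ _ _ _).trans (Eq.trans ?_ (homOfEnd_mulVec _ _ _ _).symm)
  simp [MonoidHom.prod, detFix_toGL]

theorem ker_slPairHom (g : Matrix.SpecialLinearGroup (Fin 2) F × Matrix.SpecialLinearGroup (Fin 2) F)
    (hg : g ∈ (slPairHom (F := F)).ker) :
    g.1.1 * g.2.1ᵀ = 1 ∧ g.1 ∈ Subgroup.center (Matrix.SpecialLinearGroup (Fin 2) F) ∧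
      g.2 ∈ Subgroup.center (Matrix.SpecialLinearGroup (Fin 2) F) := by
  have h : ∀ X : Matrix (Fin 2) (Fin 2) F, g.1.1 * (X * g.2.1ᵀ) = X := fun X => by
    have h1 := congrArg (twoMat F) ((mem_ker_homOfEnd _ _ _).1 hg (twoCoord F X))
    rw [MonoidHom.comp_apply, twoMat_twoSided, twoMat_coord] at h1
    exact h1
  have h1 : g.1.1 * g.2.1ᵀ = 1 := by simpa using h 1
  have h1' : g.2.1ᵀ * g.1.1 = 1 := mul_eq_one_comm.1 h1
  have hc1 : g.1 ∈ Subgroup.center (Matrix.SpecialLinearGroup (Fin 2) F) := by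
    refine Subgroup.mem_center_iff.2 fun y => Subtype.ext ?_
    rw [Matrix.SpecialLinearGroup.coe_mul, Matrix.SpecialLinearGroup.coe_mul]
    calc y.1 * g.1.1 = g.1.1 * (y.1 * g.2.1ᵀ) * g.1.1 := by rw [h]
      _ = g.1.1 * y.1 * (g.2.1ᵀ * g.1.1) := by simp only [mul_assoc]
      _ = g.1.1 * y.1 := by rw [h1', mul_one]
  refine ⟨h1, hc1, ?_⟩
  obtain ⟨r, hr, he⟩ := Matrix.SpecialLinearGroup.mem_center_iff.1 hc1
  refine Matrix.SpecialLinearGroup.mem_center_iff.2 ⟨r, hr, ?_⟩
  rw [← he] at h1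
  have h2 : r • g.2.1ᵀ = 1 := by
    rw [← h1, Matrix.smul_eq_diagonal_mul]
    rfl
  have h3 : r * r = 1 := by simpa [pow_two] using hr
  have h4 : g.2.1ᵀ = r • (1 : Matrix (Fin 2) (Fin 2) F) := by
    rw [← h2, smul_smul, h3, one_smul]
  rw [← Matrix.transpose_transpose g.2.1, h4, Matrix.transpose_smul, Matrix.transpose_one,
    Matrix.smul_one_eq_diagonal]
  rfl

variable [Fintype F]

theorem card_ker_slPairHom_le : Nat.card (slPairHom (F := F)).ker ≤ 2 := by
  classical
  refine (Nat.card_le_card_of_injective (fun g => (⟨g.1.1, (ker_slPairHom g.1 g.2).2.1⟩ :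
    Subgroup.center (Matrix.SpecialLinearGroup (Fin 2) F))) fun g g' h => ?_).trans ?_
  · have h1 := (ker_slPairHom g.1 g.2).1
    have h2 := (ker_slPairHom g'.1 g'.2).1
    have e : g.1.1 = g'.1.1 := congrArg Subtype.val h
    refine Subtype.ext (Prod.ext e (Subtype.ext (Matrix.transpose_injective ?_)))
    rw [e] at h1
    calc g.1.2.1ᵀ = (g'.1.2.1ᵀ * g'.1.1.1) * g.1.2.1ᵀ := by rw [mul_eq_one_comm.1 h2, one_mul]
      _ = g'.1.2.1ᵀ := by rw [mul_assoc, h1, mul_one]
  · rw [CfsgLib.Linear.card_center_SL, Fintype.card_fin]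
    exact Nat.le_of_dvd (by norm_num) (Nat.gcd_dvd_right _ _)

theorem four_mul_card_omega_plus_le (h2 : (2 : F) ≠ 0) {m : ℕ} (hm : 1 ≤ m) :
    4 * Nat.card (commutator (Cfsg.isometryGroup F (Cfsg.quadFormPlus m F)))
      ≤ Nat.card (Cfsg.isometryGroup F (Cfsg.quadFormPlus m F)) := by
  set Q := (Quad.hypForm m (Quad.zeroKernel F)).comp (Quad.plusEquiv m F).toLinearMap with hQdef
  have hQ : ⇑Q = Cfsg.quadFormPlus m F := funext (Quad.plusEquiv_spec m)
  rw [← hQ]
  refine four_mul_card_commutator_le h2 (fun x hx => ?_) (by simp; omega)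
  refine (Quad.plusEquiv m F).map_eq_zero_iff.1
    (Quad.ndPolar_hypForm Quad.ndPolar_zeroKernel m _ fun y => ?_)
  have h := hx ((Quad.plusEquiv m F).symm y)
  simpa [hQdef, QuadraticMap.polar] using h

theorem nonempty_pomega4_plus_equiv (hq : 3 ≤ Fintype.card F) :
    Nonempty (Cfsg.POmega F (Cfsg.quadFormPlus 2 F) ≃*
      ProjectiveSpecialLinearGroup (Fin 2) F × ProjectiveSpecialLinearGroup (Fin 2) F) := by
  classical
  let S := Matrix.SpecialLinearGroup (Fin 2) F
  have hprod : Nonempty ((S × S) ⧸ Subgroup.center (S × S) ≃*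
      ProjectiveSpecialLinearGroup (Fin 2) F × ProjectiveSpecialLinearGroup (Fin 2) F) := by
    refine ⟨(QuotientGroup.quotientMulEquivOfEq ?_).trans (QuotientGroup.quotientKerEquivOfSurjective
      ((QuotientGroup.mk' (Subgroup.center S)).prodMap (QuotientGroup.mk' (Subgroup.center S)))
      (Function.Surjective.prodMap (QuotientGroup.mk'_surjective _) (QuotientGroup.mk'_surjective _)))⟩
    rw [MonoidHom.ker_prodMap, QuotientGroup.ker_mk']
    ext ⟨x, y⟩
    simp only [Subgroup.mem_center_iff, Subgroup.mem_prod, Prod.forall, Prod.mk_mul_mk, Prod.mk.injEq]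
    exact ⟨fun h => ⟨fun a => (h a 1).1, fun b => (h 1 b).2⟩, fun h a b => ⟨h.1 a, h.2 b⟩⟩
  obtain ⟨eprod⟩ := hprod
  have hker : (slPairHom (F := F)).ker ≤ Subgroup.center (S × S) := fun g hg => by
    obtain ⟨-, h1, h2⟩ := ker_slPairHom g hg
    exact Subgroup.mem_center_iff.2 fun y => Prod.ext (Subgroup.mem_center_iff.1 h1 y.1)
      (Subgroup.mem_center_iff.1 h2 y.2)
  have hO := card_isometryGroup_plus (F := F) 1
  rw [Nat.card_eq_fintype_card (α := F)] at hO
  simp only [Finset.prod_range_one] at hO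
  simp only [Nat.reduceAdd, Nat.reduceMul] at hO
  have hS : Nat.card (S × S) = Fintype.card F * (Fintype.card F ^ 2 - 1) *
      (Fintype.card F * (Fintype.card F ^ 2 - 1)) := by
    rw [Nat.card_prod, CfsgLib.Linear.card_SL_two]
  suffices h : Nonempty (Cfsg.POmega F (Cfsg.quadFormPlus 2 F) ≃* (S × S) ⧸ Subgroup.center (S × S)) by
    obtain ⟨e⟩ := h
    exact ⟨e.trans eprod⟩
  have hk := card_ker_slPairHom_le (F := F)
  have h2S : Nat.card (Cfsg.isometryGroup F (Cfsg.quadFormPlus 2 F)) = 2 * Nat.card (S × S) := by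
    rw [hS, hO]; ring
  rcases Nat.lt_or_ge (Fintype.card F) 4 with h4 | h4
  · have hq3 : Fintype.card F = 3 := by omega
    have h2 : (2 : F) ≠ 0 := CfsgLib.Linear.two_ne_zero_of_odd_card (by rw [hq3]; decide)
    refine nonempty_central_quotient_equiv (slPairHom (F := F)) ?_ ?_ fun g hg => ?_
    · rintro _ ⟨⟨A, B⟩, rfl⟩
      have hmem : ∀ C : S, Matrix.SpecialLinearGroup.toGL C ∈ commutator (GL (Fin 2) F) := fun C => by
        rw [CfsgLib.Linear.commutator_GL_eq_ker_det fun _ => ⟨-1, by simp, fun h => h2 (by linear_combination -h)⟩,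
          ← CfsgLib.Linear.range_toGL_eq_ker_det]
        exact ⟨C, rfl⟩
      have hmap : ∀ (φ : GL (Fin 2) F →* Cfsg.isometryGroup F (Cfsg.quadFormPlus 2 F)) (C : S),
          φ (Matrix.SpecialLinearGroup.toGL C) ∈ commutator _ := fun φ C => by
        have h1 := Subgroup.mem_map_of_mem φ (hmem C)
        rw [commutator_def, Subgroup.map_commutator] at h1
        exact Subgroup.commutator_mono le_top le_top h1
      rw [show ((A, B) : S × S) = (A, 1) * (1, B) by simp, map_mul, slPairHom_left, slPairHom_right]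
      exact mul_mem (hmap _ A) (hmap _ B)
    · have h := four_mul_card_omega_plus_le h2 (show 1 ≤ 2 by norm_num)
      rw [h2S] at h
      refine (Nat.mul_le_mul_left _ hk).trans ?_
      omega
    · refine Subgroup.mem_center_iff.2 fun y => Prod.ext ?_ ?_
      · exact Subgroup.mem_center_iff.1 (mem_center_SL2_of_commutator h2 fun h =>
          (ker_slPairHom _ (hg (h, 1))).2.1) y.1
      · exact Subgroup.mem_center_iff.1 (mem_center_SL2_of_commutator h2 fun h =>
          (ker_slPairHom _ (hg (1, h))).2.2) y.2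
  · have hperf : commutator (Matrix.SpecialLinearGroup (Fin 2) F) = ⊤ :=
      CfsgLib.Linear.commutator_SL_eq_top (Or.inr (CfsgLib.Linear.exists_sq_ne_one_of_four_le_card
        (by rwa [Nat.card_eq_fintype_card])))
    refine nonempty_central_quotient_equiv_perfect (slPairHom (F := F)) ?_ hker ?_
    · rw [commutator_def, ← Subgroup.top_prod_top, Subgroup.commutator_prod_prod, ← commutator_def,
        hperf]
    · rw [h2S]
      refine (Nat.mul_le_mul_left _ hk).trans ?_
      omega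

end CfsgLib.Classical.SmallIso
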