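import Cfsg.Agent.Lib.Classical.SmallIso.Exterior
import Cfsg.Agent.Lib.Linear.SympCard
import Cfsg.Agent.Lib.Linear.SympSimple

/-!
`PΩ₅(q) ≅ PSp₄(q)` for odd `q`: the orthogonal complement of the symplectic form in the exterior
square.
-/

set_option autoImplicit false

namespace CfsgLib.Classical.SmallIso

open Matrix

variable (F : Type*) [Field F]

/-- Symplectic matrices as `4 × 4` matrices. -/
def spMat : Matrix.symplecticGroup (Fin 2) F →* Matrix (Fin 4) (Fin 4) F where
  toFun g := Matrix.reindexAlgEquiv F F finSumFinEquiv g.1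
  map_one' := by simp
  map_mul' g h := by simp only [Submonoid.coe_mul, map_mul]

/-- The five-dimensional space inside the exterior square. -/
def sp5In : (Unit ⊕ (Fin 2 ⊕ Fin 2) → F) →ₗ[F] (Fin 3 ⊕ Fin 3 → F) where
  toFun u := Sum.elim ![u (.inr (.inl 0)), u (.inl ()), u (.inr (.inl 1))]
    ![u (.inr (.inr 0)), u (.inl ()), u (.inr (.inr 1))]
  map_add' u v := by funext i; rcases i with i | i <;> fin_cases i <;> simp
  map_smul' c v := by funext i; rcases i with i | i <;> fin_cases i <;> simp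

/-- The projection back to five coordinates. -/
def sp5Out : (Fin 3 ⊕ Fin 3 → F) →ₗ[F] (Unit ⊕ (Fin 2 ⊕ Fin 2) → F) where
  toFun v := Sum.elim (fun _ => v (.inl 1))
    (Sum.elim ![v (.inl 0), v (.inl 2)] ![v (.inr 0), v (.inr 2)])
  map_add' u v := by funext i; rcases i with i | i | i <;> (try fin_cases i) <;> simp
  map_smul' c v := by funext i; rcases i with i | i | i <;> (try fin_cases i) <;> simp

/-- The symplectic form as a vector of the exterior square. -/
def sp5Omega : Fin 3 ⊕ Fin 3 → F := Sum.elim ![0, -1, 0] ![0, 1, 0]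

variable {F}

theorem sp5Out_in (u : Unit ⊕ (Fin 2 ⊕ Fin 2) → F) : sp5Out F (sp5In F u) = u := by
  funext i
  rcases i with i | i | i <;> (try fin_cases i) <;> simp [sp5In, sp5Out]

theorem sp5In_out {v : Fin 3 ⊕ Fin 3 → F} (h : v (.inr 1) = v (.inl 1)) :
    sp5In F (sp5Out F v) = v := by
  funext i
  rcases i with i | i <;> fin_cases i <;> simp [sp5In, sp5Out, h]

theorem quadFormPlus_sp5In (u : Unit ⊕ (Fin 2 ⊕ Fin 2) → F) :
    Cfsg.quadFormPlus 3 F (sp5In F u) = Cfsg.quadFormOdd 2 F u := by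
  simp [sp5In, Cfsg.quadFormPlus, Cfsg.quadFormOdd, Fin.sum_univ_three]
  ring

theorem det_spMat (g : Matrix.symplecticGroup (Fin 2) F) : (spMat F g).det = 1 := by
  show (Matrix.reindexAlgEquiv F F finSumFinEquiv g.1).det = 1
  rw [Matrix.det_reindexAlgEquiv, SymplecticGroup.det_eq_one g.2]

theorem extSquare_spMat_Q (g : Matrix.symplecticGroup (Fin 2) F) (v : Fin 3 ⊕ Fin 3 → F) :
    Cfsg.quadFormPlus 3 F (extSquare (spMat F g) v) = Cfsg.quadFormPlus 3 F v :=
  extSquare_Q ⟨spMat F g, det_spMat g⟩ v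

theorem altMat_sp5Omega :
    altMat F (sp5Omega F) = Matrix.reindexAlgEquiv F F finSumFinEquiv (Matrix.J (Fin 2) F) := by
  ext i j
  fin_cases i <;> fin_cases j <;>
    simp [altMat, sp5Omega, Matrix.J, Matrix.fromBlocks, finSumFinEquiv, Fin.addCases]

theorem extSquare_sp5Omega (g : Matrix.symplecticGroup (Fin 2) F) :
    extSquare (spMat F g) (sp5Omega F) = sp5Omega F := by
  have h : (spMat F g) * altMat F (sp5Omega F) * (spMat F g)ᵀ = altMat F (sp5Omega F) := by
    rw [altMat_sp5Omega]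
    show Matrix.reindexAlgEquiv F F finSumFinEquiv g.1 * _ *
      (Matrix.reindexAlgEquiv F F finSumFinEquiv g.1)ᵀ = _
    rw [show (Matrix.reindexAlgEquiv F F finSumFinEquiv g.1)ᵀ =
      Matrix.reindexAlgEquiv F F finSumFinEquiv g.1ᵀ from rfl, ← map_mul, ← map_mul,
      SymplecticGroup.mem_iff.1 g.2]
  rw [extSquare_apply, h, altCoord_mat]

theorem sp5In_out_extSquare (g : Matrix.symplecticGroup (Fin 2) F) (u : Unit ⊕ (Fin 2 ⊕ Fin 2) → F) :
    sp5In F (sp5Out F (extSquare (spMat F g) (sp5In F u))) = extSquare (spMat F g) (sp5In F u) := by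
  refine sp5In_out ?_
  set w := extSquare (spMat F g) (sp5In F u) with hw
  have h1 := extSquare_spMat_Q g (sp5In F u + sp5Omega F)
  rw [map_add, extSquare_sp5Omega, ← hw] at h1
  have h2 := extSquare_spMat_Q g (sp5In F u)
  rw [← hw] at h2
  simp [Cfsg.quadFormPlus, Fin.sum_univ_three, sp5Omega, sp5In] at h1 h2
  linear_combination h2 - h1

/-- `Sp₄` on the five-dimensional space. -/
def spExtFive : Matrix.symplecticGroup (Fin 2) F →* Module.End F (Unit ⊕ (Fin 2 ⊕ Fin 2) → F) where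
  toFun g := (sp5Out F).comp ((extSquare (spMat F g)).comp (sp5In F))
  map_one' := LinearMap.ext fun v => by simp [sp5Out_in]
  map_mul' g h := LinearMap.ext fun v => by
    simp only [Module.End.mul_apply, LinearMap.comp_apply, map_mul, sp5In_out_extSquare]

theorem spExtFive_Q (g : Matrix.symplecticGroup (Fin 2) F) (u : Unit ⊕ (Fin 2 ⊕ Fin 2) → F) :
    Cfsg.quadFormOdd 2 F (spExtFive g u) = Cfsg.quadFormOdd 2 F u := by
  rw [← quadFormPlus_sp5In, ← quadFormPlus_sp5In]
  show Cfsg.quadFormPlus 3 F (sp5In F (sp5Out F _)) = _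
  rw [LinearMap.comp_apply, sp5In_out_extSquare, extSquare_spMat_Q]

theorem nonempty_pomega5_equiv [Fintype F] (hodd : Odd (Fintype.card F)) :
    Nonempty (Cfsg.POmega F (Cfsg.quadFormOdd 2 F) ≃* Cfsg.PSp 2 F) := by
  have h2 : (2 : F) ≠ 0 := by
    rw [Quad.two_ne_zero_iff_odd, Nat.card_eq_fintype_card]
    exact hodd
  have hq : 1 < Fintype.card F := Fintype.one_lt_card
  rw [Nat.odd_iff] at hodd
  have hcond : 3 ≤ 2 ∨ (2 = 2 ∧ 3 ≤ Fintype.card F) ∨ 4 ≤ Fintype.card F :=
    Or.inr (Or.inl ⟨rfl, by omega⟩)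
  set f := homOfEnd spExtFive (spExtFive_Q (F := F))
  have hker : f.ker ≤ Subgroup.center (Matrix.symplecticGroup (Fin 2) F) := by
    refine (CfsgLib.Linear.Symp.normal_le_center_or_eq_top hcond _).resolve_right ?_
    intro htop
    have h1 : SymplecticGroup.symJ (Fin 2) F ∈ f.ker := htop ▸ Subgroup.mem_top _
    have h3 := congrFun ((mem_ker_homOfEnd spExtFive (spExtFive_Q (F := F)) _).1 h1
      (Sum.elim (fun _ => 0) (Sum.elim ![1, 0] ![0, 0]))) (Sum.inr (Sum.inl 0))
    have hJ : spMat F (SymplecticGroup.symJ (Fin 2) F) = altMat F (sp5Omega F) := by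
      rw [altMat_sp5Omega]; rfl
    simp [spExtFive, hJ, sp5Out, sp5In, extSquare_apply, altCoord, altMat, sp5Omega,
      Matrix.mul_apply, Matrix.vecMul, dotProduct, Fin.sum_univ_four] at h3
  refine nonempty_central_quotient_equiv_perfect f (CfsgLib.Linear.Symp.commutator_eq_top hcond) hker ?_
  have hk : Nat.card f.ker ≤ 2 := by
    refine (Subgroup.card_le_of_le hker).trans ?_
    rw [CfsgLib.Linear.Symp.card_center (by norm_num)]
    exact Nat.le_of_dvd (by norm_num) (Nat.gcd_dvd_left _ _)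
  calc Nat.card (Cfsg.isometryGroup F (Cfsg.quadFormOdd 2 F)) * Nat.card f.ker
      ≤ Nat.card (Cfsg.isometryGroup F (Cfsg.quadFormOdd 2 F)) * 2 := Nat.mul_le_mul_left _ hk
    _ = _ := by
      rw [card_isometryGroup_odd h2, CfsgLib.Linear.Symp.card_symplectic, Nat.card_eq_fintype_card]
      ring

end CfsgLib.Classical.SmallIso
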