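import Cfsg.Agent.Lib.Classical.SmallIso.O6Plus
import Cfsg.Agent.Lib.Classical.SmallIso.QuadExt
import Cfsg.Agent.Lib.Classical.Herm.Std

/-!
`PΩ⁻₆(q) ≅ PSU₄(q)`: the fixed points of a semilinear involution of the exterior square.
-/

set_option autoImplicit false

namespace CfsgLib.Classical.SmallIso

open Matrix Herm

section Gen

variable {K : Type*} [Field K] (σ : K →+* K)

theorem extSquare_map (A : Matrix (Fin 4) (Fin 4) K) (v : Fin 3 ⊕ Fin 3 → K) :
    extSquare (A.map σ) (σ ∘ v) = σ ∘ (extSquare A v) := by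
  have h : altMat K (σ ∘ v) = (altMat K v).map σ := by
    ext i j
    fin_cases i <;> fin_cases j <;> simp [altMat]
  rw [extSquare_apply, extSquare_apply, h]
  funext i
  rcases i with i | i <;> fin_cases i <;> simp [altCoord, Matrix.mul_apply, Fin.sum_univ_four]

/-- The exterior square of a unitary matrix commutes with the semilinear involution. -/
theorem extSquare_unitary (A : Matrix.SpecialLinearGroup (Fin 4) K)
    (hA : A.1ᵀ * A.1.map σ = 1) {v : Fin 3 ⊕ Fin 3 → K} (hv : σ ∘ v = altSwap K v) :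
    σ ∘ extSquare A.1 v = altSwap K (extSquare A.1 v) := by
  rw [← extSquare_map, hv]
  conv_lhs => rw [← extSquare_swap A v]
  rw [← Module.End.mul_apply, ← map_mul, mul_eq_one_comm.1 hA, map_one, Module.End.one_apply]

end Gen

variable {F K : Type*} [Field F] [Field K] {σ : K →+* K} {a b : F}
  (C : QuadCoord F K σ a b) (η : K)

/-- The auxiliary solution of the two linear equations. -/
def minusT (a b : F) (v : (Fin 2 ⊕ Fin 2) ⊕ Fin 2 → F) : F × F :=
  ((2 * b * (v (.inl (.inr 0)) - v (.inl (.inl 0)) - a * v (.inl (.inl 1)))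
      - a * (v (.inl (.inr 1)) - b * v (.inl (.inl 1)))) / (4 * b - a ^ 2),
    (2 * (v (.inl (.inr 1)) - b * v (.inl (.inl 1)))
      - a * (v (.inl (.inr 0)) - v (.inl (.inl 0)) - a * v (.inl (.inl 1)))) / (4 * b - a ^ 2))

theorem minusT_spec (a b : F) (hD : 4 * b - a ^ 2 ≠ 0) (v : (Fin 2 ⊕ Fin 2) ⊕ Fin 2 → F) :
    2 * (minusT a b v).1 + a * (minusT a b v).2
        = v (.inl (.inr 0)) - v (.inl (.inl 0)) - a * v (.inl (.inl 1)) ∧
      a * (minusT a b v).1 + 2 * b * (minusT a b v).2
        = v (.inl (.inr 1)) - b * v (.inl (.inl 1)) := by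
  simp only [minusT]
  constructor <;>
    (rw [mul_div_assoc', mul_div_assoc', ← add_div, div_eq_iff hD]; ring)

theorem minusT_unique (a b : F) (hD : 4 * b - a ^ 2 ≠ 0) (v : (Fin 2 ⊕ Fin 2) ⊕ Fin 2 → F)
    (t : F × F)
    (hA : 2 * t.1 + a * t.2 = v (.inl (.inr 0)) - v (.inl (.inl 0)) - a * v (.inl (.inl 1)))
    (hB : a * t.1 + 2 * b * t.2 = v (.inl (.inr 1)) - b * v (.inl (.inl 1))) :
    minusT a b v = t := by
  obtain ⟨h1, h2⟩ := minusT_spec a b hD v
  refine Prod.ext (mul_left_cancel₀ hD ?_) (mul_left_cancel₀ hD ?_)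
  · linear_combination 2 * b * (h1 - hA) - a * (h2 - hB)
  · linear_combination 2 * (h2 - hB) - a * (h1 - hA)

/-- The vector of the exterior square of a coordinate vector. -/
def minusIn (v : (Fin 2 ⊕ Fin 2) ⊕ Fin 2 → F) : Fin 3 → K :=
  ![C.emb ((minusT a b v).1 + v (.inl (.inl 0))) + C.emb ((minusT a b v).2 + v (.inl (.inl 1))) * C.gen,
    η * (C.emb (minusT a b v).1 + C.emb (minusT a b v).2 * C.gen),
    C.emb (v (.inr 0)) + C.emb (v (.inr 1)) * C.gen]

/-- Reading off the coordinates. -/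
def minusOut (x : Fin 3 → K) : (Fin 2 ⊕ Fin 2) ⊕ Fin 2 → F :=
  let u := C.coord (x 0)
  let t := C.coord (x 1 / η)
  Sum.elim (Sum.elim ![u.1 - t.1, u.2 - t.2]
    ![u.1 + t.1 + a * u.2, a * t.1 + b * (u.2 + t.2)]) ![(C.coord (x 2)).1, (C.coord (x 2)).2]

theorem minusOut_in (hη : η ≠ 0) (hD : 4 * b - a ^ 2 ≠ 0) (v : (Fin 2 ⊕ Fin 2) ⊕ Fin 2 → F) :
    minusOut C η (minusIn C η v) = v := by
  obtain ⟨h1, h2⟩ := minusT_spec a b hD v
  have e0 : C.coord (minusIn C η v 0) =
      ((minusT a b v).1 + v (.inl (.inl 0)), (minusT a b v).2 + v (.inl (.inl 1))) := C.coord_emb _ _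
  have e1 : C.coord (minusIn C η v 1 / η) = minusT a b v := by
    show C.coord (η * _ / η) = _
    rw [mul_div_cancel_left₀ _ hη, C.coord_emb]
  have e2 : C.coord (minusIn C η v 2) = (v (.inr 0), v (.inr 1)) := C.coord_emb _ _
  funext i
  rcases i with (i | i) | i <;> fin_cases i <;> simp [minusOut, e0, e1, e2]
  · linear_combination h1
  · linear_combination h2

theorem minusIn_out (hη : η ≠ 0) (hD : 4 * b - a ^ 2 ≠ 0) (x : Fin 3 → K) :
    minusIn C η (minusOut C η x) = x := by
  have ht : minusT a b (minusOut C η x) = C.coord (x 1 / η) := by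
    refine minusT_unique a b hD _ _ ?_ ?_ <;> simp [minusOut] <;> ring
  funext i
  rw [minusIn, ht]
  fin_cases i <;> simp [minusOut, C.coord_spec, mul_div_cancel₀ _ hη]

theorem minusIn_norm (hη : η * σ η = -1) (hD : 4 * b - a ^ 2 ≠ 0)
    (v : (Fin 2 ⊕ Fin 2) ⊕ Fin 2 → F) :
    ∑ i, minusIn C η v i * σ (minusIn C η v i) = C.emb (Cfsg.quadFormMinus 2 F a b v) := by
  obtain ⟨h1, h2⟩ := minusT_spec a b hD v
  rw [Fin.sum_univ_three]
  simp only [minusIn, Matrix.cons_val_zero, Matrix.cons_val_one, Matrix.cons_val_two,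
    Matrix.tail_cons, Matrix.head_cons]
  rw [map_mul σ η, show ∀ z : K, η * z * (σ η * σ z) = (η * σ η) * (z * σ z) from fun z => by ring,
    hη, C.norm_eq, C.norm_eq, C.norm_eq, neg_one_mul, ← sub_eq_add_neg, ← map_sub, ← map_add]
  congr 1
  simp [Cfsg.quadFormMinus, Fin.sum_univ_two]
  linear_combination v (.inl (.inl 0)) * h1 + v (.inl (.inl 1)) * h2

/-- The coordinate embedding into the exterior square. -/
def minusVec (v : (Fin 2 ⊕ Fin 2) ⊕ Fin 2 → F) : Fin 3 ⊕ Fin 3 → K :=
  Sum.elim (minusIn C η v) (σ ∘ minusIn C η v)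

theorem minusVec_fixed (hσ : ∀ z, σ (σ z) = z) (v : (Fin 2 ⊕ Fin 2) ⊕ Fin 2 → F) :
    σ ∘ minusVec C η v = altSwap K (minusVec C η v) := by
  funext i; rcases i with i | i <;> simp [minusVec, altSwap, hσ]

theorem minusVec_out (hη : η ≠ 0) (hD : 4 * b - a ^ 2 ≠ 0) {w : Fin 3 ⊕ Fin 3 → K}
    (hw : σ ∘ w = altSwap K w) : minusVec C η (minusOut C η (w ∘ Sum.inl)) = w := by
  funext i
  rcases i with i | i
  · exact congrFun (minusIn_out C η hη hD _) i
  · show σ (minusIn C η _ i) = w (.inr i)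
    rw [minusIn_out C η hη hD]
    exact congrFun hw (.inl i)

theorem minusVec_inj (hη : η ≠ 0) (hD : 4 * b - a ^ 2 ≠ 0)
    {v w : (Fin 2 ⊕ Fin 2) ⊕ Fin 2 → F} (h : minusVec C η v = minusVec C η w) : v = w := by
  rw [← minusOut_in C η hη hD v, ← minusOut_in C η hη hD w]
  exact congrArg (minusOut C η) (funext fun i => congrFun h (.inl i))

theorem minusVec_add (v w : (Fin 2 ⊕ Fin 2) ⊕ Fin 2 → F) :
    minusVec C η (v + w) = minusVec C η v + minusVec C η w := by
  have h : minusIn C η (v + w) = minusIn C η v + minusIn C η w := by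
    funext i
    fin_cases i <;> simp [minusIn, minusT] <;> ring
  funext i; rcases i with i | i <;> simp [minusVec, h]

theorem minusVec_smul (c : F) (v : (Fin 2 ⊕ Fin 2) ⊕ Fin 2 → F) :
    minusVec C η (c • v) = C.emb c • minusVec C η v := by
  have h : minusIn C η (c • v) = C.emb c • minusIn C η v := by
    funext i
    fin_cases i <;> simp [minusIn, minusT] <;> ring
  funext i; rcases i with i | i <;> simp [minusVec, h, C.sigma_emb]

theorem quadFormPlus_minusVec (hη : η * σ η = -1) (hD : 4 * b - a ^ 2 ≠ 0)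
    (v : (Fin 2 ⊕ Fin 2) ⊕ Fin 2 → F) :
    Cfsg.quadFormPlus 3 K (minusVec C η v) = C.emb (Cfsg.quadFormMinus 2 F a b v) :=
  minusIn_norm C η hη hD v

section Group

variable [Fintype K] {q : ℕ}

theorem su_transpose_mul (hK : Fintype.card K = q ^ 2) (A : Cfsg.SU 4 K q) :
    A.1.1ᵀ * A.1.1.map (qPow hK) = 1 := by
  have hq := two_le_of_card hK
  ext i j
  have h := A.2 (Pi.single i 1) (Pi.single j 1)
  simp only [MonoidHom.comp_apply, Units.coeHom_apply] at h
  change Cfsg.hermForm 4 K q (A.1.1 *ᵥ Pi.single i 1) (A.1.1 *ᵥ Pi.single j 1) = _ at h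
  rw [Matrix.mulVec_single_one, Matrix.mulVec_single_one, Cfsg.hermForm, Cfsg.hermForm] at h
  rw [Matrix.mul_apply]
  refine h.trans ?_
  rw [Finset.sum_eq_single i (fun k _ hk => by simp [hk]) (by simp)]
  by_cases hij : i = j
  · subst hij; simp
  · simp [hij, zero_pow (show q ≠ 0 by omega)]

variable {a' b' : F} (hK : Fintype.card K = q ^ 2) (D : QuadCoord F K (qPow hK) a' b')
  (hη : η ≠ 0) (hD : 4 * b' - a' ^ 2 ≠ 0)

/-- `SU₄` on the fixed points of the involution. -/
def suExt : Cfsg.SU 4 K q →* Module.End F ((Fin 2 ⊕ Fin 2) ⊕ Fin 2 → F) :=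
  have key : ∀ (A : Cfsg.SU 4 K q) v, minusVec D η (minusOut D η
      (extSquare A.1.1 (minusVec D η v) ∘ Sum.inl)) = extSquare A.1.1 (minusVec D η v) :=
    fun A v => minusVec_out D η hη hD
      (extSquare_unitary _ A.1 (su_transpose_mul hK A) (minusVec_fixed D η (qPow_qPow hK) v))
  { toFun := fun A =>
      { toFun := fun v => minusOut D η (extSquare A.1.1 (minusVec D η v) ∘ Sum.inl)
        map_add' := fun v w => minusVec_inj D η hη hD (by
          rw [key, minusVec_add D η v w, minusVec_add, key, key, map_add])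
        map_smul' := fun c v => minusVec_inj D η hη hD (by
          rw [key, RingHom.id_apply, minusVec_smul, minusVec_smul, key, map_smul]) }
    map_one' := LinearMap.ext fun v => minusVec_inj D η hη hD (by
      show minusVec D η (minusOut D η _) = minusVec D η v
      rw [key]
      simp)
    map_mul' := fun A B => LinearMap.ext fun v => minusVec_inj D η hη hD (by
      show minusVec D η (minusOut D η (extSquare (A * B).1.1 _ ∘ Sum.inl)) =
        minusVec D η (minusOut D η (extSquare A.1.1 (minusVec D η (minusOut D η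
          (extSquare B.1.1 (minusVec D η v) ∘ Sum.inl))) ∘ Sum.inl))
      rw [key, key, key, show (A * B).1.1 = A.1.1 * B.1.1 from rfl, map_mul, Module.End.mul_apply]) }

theorem minusVec_suExt (A : Cfsg.SU 4 K q) (v : (Fin 2 ⊕ Fin 2) ⊕ Fin 2 → F) :
    minusVec D η (suExt η hK D hη hD A v) = extSquare A.1.1 (minusVec D η v) :=
  minusVec_out D η hη hD
    (extSquare_unitary _ A.1 (su_transpose_mul hK A) (minusVec_fixed D η (qPow_qPow hK) v))

theorem suExt_Q (hη' : η * qPow hK η = -1) (A : Cfsg.SU 4 K q)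
    (v : (Fin 2 ⊕ Fin 2) ⊕ Fin 2 → F) :
    Cfsg.quadFormMinus 2 F a' b' (suExt η hK D hη hD A v) = Cfsg.quadFormMinus 2 F a' b' v := by
  apply D.emb.injective
  rw [← quadFormPlus_minusVec D η hη' hD, ← quadFormPlus_minusVec D η hη' hD, minusVec_suExt,
    extSquare_Q]

end Group

theorem nonempty_pomega6_minus_equiv {F K : Type*} [Field F] [Fintype F] [Field K] [Fintype K]
    {q : ℕ} (hF : Fintype.card F = q) (hK : Fintype.card K = q ^ 2) (a b : F)
    (hab : Quad.IsAniso a b) :
    Nonempty (Cfsg.POmega F (Cfsg.quadFormMinus 2 F a b) ≃* Cfsg.PSU 4 K q) := by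
  classical
  obtain ⟨D⟩ := exists_quadCoord hF hK a b hab
  obtain ⟨η, hη'⟩ := exists_norm_eq hK (-1) (by rw [map_neg, map_one])
  have hη : η ≠ 0 := by
    rintro rfl
    simp at hη'
  have hD := hab.disc
  set f := homOfEnd (suExt η hK D hη hD) (suExt_Q η hK D hη hD hη')
  obtain ⟨c, hc⟩ := exists_qPow_ne hK
  -- a member of the kernel acts trivially on the whole exterior square
  have hkey : ∀ A : f.ker, A.1.1 ∈ (slToO6 (F := K)).ker := by
    intro A
    have hfix : ∀ w : Fin 3 ⊕ Fin 3 → K, qPow hK ∘ w = altSwap K w →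
        extSquare A.1.1.1 w = w := fun w hw => by
      rw [← minusVec_out D η hη hD hw, ← minusVec_suExt η hK D hη hD,
        (mem_ker_homOfEnd _ _ _).1 A.2]
    refine (mem_ker_homOfEnd _ _ _).2 fun p => ?_
    show extSquare A.1.1.1 p = p
    have h1 := hfix (p + qPow hK ∘ altSwap K p) (by
      funext i; rcases i with i | i <;>
        simp [altSwap, map_add, qPow_qPow, -qPow_apply, add_comm])
    have h2 := hfix (c • p + qPow hK ∘ altSwap K (c • p)) (by
      funext i; rcases i with i | i <;>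
        simp [altSwap, map_add, map_mul, qPow_qPow, -qPow_apply, add_comm])
    have hc' : qPow hK c • (p + qPow hK ∘ altSwap K p) - (c • p + qPow hK ∘ altSwap K (c • p))
        = (qPow hK c - c) • p := by
      funext i
      simp [altSwap, mul_pow]
      ring
    have h3 : extSquare A.1.1.1 ((qPow hK c - c) • p) = (qPow hK c - c) • p := by
      rw [← hc', map_sub, map_smul, h1, h2]
    rw [map_smul] at h3
    exact smul_right_injective _ (sub_ne_zero.2 hc) h3
  obtain ⟨hk, hcK⟩ := card_ker_slToO6_le (F := K)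
  have hker : f.ker ≤ Subgroup.center (Cfsg.SU 4 K q) := fun A hA =>
    Subgroup.mem_center_iff.2 fun y => Subtype.ext (Subgroup.mem_center_iff.1 (hcK (hkey ⟨A, hA⟩)) y.1)
  obtain ⟨e, e', p⟩ := exists_pair_std hK (show 3 ≤ 4 by norm_num)
  have hperf : commutator (Cfsg.SU 4 K q) = ⊤ := by
    have h1 := rootGen_perfect (big_std hK (show 3 ≤ 4 by norm_num))
      (perfectable_std hK (show 3 ≤ 4 by norm_num) (by omega)) p
    have h2 := Subgroup.map_commutator (⊤ : Subgroup (rootGen (stdHerm hK 4))) ⊤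
      (suEquivRoot hK (show 3 ≤ 4 by norm_num)).symm.toMonoidHom
    rw [← commutator_def, h1, Subgroup.map_top_of_surjective _ (MulEquiv.surjective _),
      ← commutator_def] at h2
    exact h2.symm
  refine nonempty_central_quotient_equiv_perfect f hperf hker ?_
  have hk2 : Nat.card f.ker ≤ 2 := by
    let j : f.ker → (slToO6 (F := K)).ker := fun A => ⟨A.1.1, hkey A⟩
    have hj : Function.Injective j := by
      intro A B h
      have h1 : (j A).1 = (j B).1 := by rw [h]
      exact Subtype.ext (Subtype.ext h1)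
    exact (Nat.card_le_card_of_injective j hj).trans hk
  refine (Nat.mul_le_mul_left _ hk2).trans (le_of_eq ?_)
  refine Nat.eq_of_mul_eq_mul_left (show 0 < q + 1 by omega) ?_
  have hS := (card_unit_eq_mul_su hK (show 1 ≤ 4 by norm_num)).trans (card_unit hK 4)
  rw [show (q + 1) * (4 * Nat.card (Cfsg.SU 4 K q)) = 4 * ((q + 1) * Nat.card (Cfsg.SU 4 K q)) by ring,
    hS, card_isometryGroup_minus hab, Nat.card_eq_fintype_card, hF]
  simp only [Finset.prod_range_succ, Finset.prod_range_zero]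
  norm_num [Nat.even_iff]
  ring

end CfsgLib.Classical.SmallIso
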