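import Cfsg.Agent.Lib.Classical.SmallIso.Exterior

/-!
`PΩ⁺₆(q) ≅ PSL₄(q)`.
-/

set_option autoImplicit false

namespace CfsgLib.Classical.SmallIso

open Matrix

variable {F : Type*} [Field F]

theorem card_ker_slToO6_le [Fintype F] : Nat.card (slToO6 (F := F)).ker ≤ 2 ∧
    (slToO6 (F := F)).ker ≤ Subgroup.center (Matrix.SpecialLinearGroup (Fin 4) F) := by
  classical
  have hc : (slToO6 (F := F)).ker ≤ Subgroup.center (Matrix.SpecialLinearGroup (Fin 4) F) := by
    refine (CfsgLib.Linear.SL_normal_le_center_or_eq_top (Or.inl (by simp)) _).resolve_right ?_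
    intro htop
    have h1 : Matrix.SpecialLinearGroup.transvection (show (0 : Fin 4) ≠ 1 by decide) (1 : F) ∈
        (slToO6 (F := F)).ker := htop ▸ Subgroup.mem_top _
    have h2 := (mem_ker_homOfEnd _ _ _).1 h1 (Sum.elim ![0, 0, 0] ![0, 0, 1])
    have h2' : extSquare (Matrix.transvection (0 : Fin 4) 1 (1 : F)) (Sum.elim ![0, 0, 0] ![0, 0, 1])
        = Sum.elim ![0, 0, 0] ![0, 0, 1] := h2
    have h3 := congrFun h2' (Sum.inl 1)
    simp [extSquare_apply, altMat, altCoord, Matrix.SpecialLinearGroup.transvection,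
      Matrix.transvection, Matrix.mul_apply, Fin.sum_univ_four] at h3
  refine ⟨?_, hc⟩
  let φ : (slToO6 (F := F)).ker → ({1, -1} : Finset F) := fun g => ⟨g.1.1 0 0, by
    obtain ⟨r, -, hg⟩ := Matrix.SpecialLinearGroup.mem_center_iff.1 (hc g.2)
    have h1 := (mem_ker_homOfEnd _ _ _).1 g.2 (Sum.elim ![1, 0, 0] ![0, 0, 0])
    have h2 := congrFun h1 (Sum.inl 0)
    simp only [MonoidHom.comp_apply, Units.coeHom_apply] at h2
    rw [show ((Matrix.SpecialLinearGroup.toGL g.1 : GL (Fin 4) F) : Matrix (Fin 4) (Fin 4) F)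
      = Matrix.scalar (Fin 4) r from hg.symm, extSquare_scalar] at h2
    simp at h2
    rw [← hg]
    simp only [Matrix.scalar_apply, Matrix.diagonal_apply_eq, Finset.mem_insert, Finset.mem_singleton]
    exact mul_self_eq_one_iff.1 h2⟩
  refine (Nat.card_le_card_of_injective φ fun g g' h => ?_).trans ?_
  · obtain ⟨r, -, hg⟩ := Matrix.SpecialLinearGroup.mem_center_iff.1 (hc g.2)
    obtain ⟨r', -, hg'⟩ := Matrix.SpecialLinearGroup.mem_center_iff.1 (hc g'.2)
    have h' : g.1.1 0 0 = g'.1.1 0 0 := congrArg Subtype.val h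
    rw [← hg, ← hg'] at h'
    simp at h'
    exact Subtype.ext (Subtype.ext (by rw [← hg, ← hg', h']))
  · rw [Nat.card_eq_fintype_card, Fintype.card_coe]
    exact Finset.card_le_two

theorem nonempty_pomega6_plus_equiv [Fintype F] :
    Nonempty (Cfsg.POmega F (Cfsg.quadFormPlus 3 F) ≃* ProjectiveSpecialLinearGroup (Fin 4) F) := by
  obtain ⟨hk, hc⟩ := card_ker_slToO6_le (F := F)
  refine nonempty_central_quotient_equiv_perfect (slToO6 (F := F))
    (CfsgLib.Linear.commutator_SL_eq_top (Or.inl (by simp))) hc ?_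
  have hO := card_isometryGroup_plus (F := F) 2
  have hS := CfsgLib.Linear.card_SL_mul (F := F) 4 (by norm_num)
  rw [Nat.card_eq_fintype_card (α := F)] at hO
  simp only [Fin.prod_univ_four, Finset.prod_range_succ, Finset.prod_range_zero] at hO hS
  norm_num at hO hS
  set q := Fintype.card F
  have hq : 1 < q := Fintype.one_lt_card
  have h6 : Nat.card (Cfsg.isometryGroup F (Cfsg.quadFormPlus 3 F)) =
      2 * Nat.card (Matrix.SpecialLinearGroup (Fin 4) F) := by
    refine Nat.eq_of_mul_eq_mul_left (show 0 < q - 1 by omega) ?_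
    rw [hO]
    rw [show (q - 1) * (2 * Nat.card (Matrix.SpecialLinearGroup (Fin 4) F)) =
      2 * ((q - 1) * Nat.card (Matrix.SpecialLinearGroup (Fin 4) F)) by ring, hS]
    have e1 : q ^ 4 - q = q * (q ^ 3 - 1) := by
      rw [Nat.mul_sub, ← pow_succ', mul_one]
    have e2 : q ^ 4 - q ^ 2 = q ^ 2 * (q ^ 2 - 1) := by
      rw [Nat.mul_sub, ← pow_add, mul_one]
    have e3 : q ^ 4 - q ^ 3 = q ^ 3 * (q - 1) := by
      rw [Nat.mul_sub, ← pow_succ, mul_one]
    rw [e1, e2, e3]
    ring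
  calc Nat.card (Cfsg.isometryGroup F (Cfsg.quadFormPlus 3 F)) * Nat.card (slToO6 (F := F)).ker
      ≤ Nat.card (Cfsg.isometryGroup F (Cfsg.quadFormPlus 3 F)) * 2 := Nat.mul_le_mul_left _ hk
    _ = _ := by rw [h6]; ring

end CfsgLib.Classical.SmallIso
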