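import Cfsg.Agent.Lib.Linear.Symplectic
import Cfsg.Prelude.Def_Classical
import Mathlib.FieldTheory.Perfect

/-!
In characteristic two, `O_{2m+1}(q) ≅ Sp_{2m}(q)`: restrict to the quotient by the radical.
-/

set_option autoImplicit false

namespace CfsgLib.Classical.SmallIso

open Matrix Cfsg

variable {F : Type*} [Field F] [CharP F 2] {m : ℕ}

theorem quadFormOdd_elim (c : F) (w : Fin m ⊕ Fin m → F) :
    quadFormOdd m F (Sum.elim (fun _ => c) w) = c ^ 2 + quadFormPlus m F w := rfl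

theorem quadFormPlus_add_char_two (u w : Fin m ⊕ Fin m → F) :
    quadFormPlus m F (u + w) = quadFormPlus m F u + quadFormPlus m F w + sympForm m F u w := by
  rw [CfsgLib.Linear.Symp.sympForm_eq_sum]
  simp only [quadFormPlus, Pi.add_apply, ← Finset.sum_add_distrib]
  refine Finset.sum_congr rfl fun i _ => ?_
  rw [CharTwo.sub_eq_add]
  ring

theorem quadFormPlus_smul (a : F) (w : Fin m ⊕ Fin m → F) :
    quadFormPlus m F (a • w) = a ^ 2 * quadFormPlus m F w := by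
  simp only [quadFormPlus, Finset.mul_sum, Pi.smul_apply, smul_eq_mul]
  exact Finset.sum_congr rfl fun i _ => by ring

section

variable (g : Cfsg.isometryGroup F (quadFormOdd m F))

theorem odd_preserves (v : Unit ⊕ (Fin m ⊕ Fin m) → F) :
    quadFormOdd m F ((g.1 : Matrix (Unit ⊕ (Fin m ⊕ Fin m)) (Unit ⊕ (Fin m ⊕ Fin m)) F) *ᵥ v) = quadFormOdd m F v := g.2 v v

theorem odd_fix_radical :
    (g.1 : Matrix (Unit ⊕ (Fin m ⊕ Fin m)) (Unit ⊕ (Fin m ⊕ Fin m)) F) *ᵥ Sum.elim (fun _ => (1 : F)) 0 = Sum.elim (fun _ => (1 : F)) 0 := by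
  set e : Unit ⊕ (Fin m ⊕ Fin m) → F := Sum.elim (fun _ => (1 : F)) 0
  set u := (g.1 : Matrix (Unit ⊕ (Fin m ⊕ Fin m)) (Unit ⊕ (Fin m ⊕ Fin m)) F) *ᵥ e with hu
  have hdecomp : ∀ v : Unit ⊕ (Fin m ⊕ Fin m) → F, v = Sum.elim (fun _ => v (.inl ())) (v ∘ Sum.inr) :=
    fun v => by funext i; rcases i with i | i <;> rfl
  have hw : u ∘ Sum.inr = 0 := by
    refine CfsgLib.Linear.Symp.eq_zero_of_forall_form fun w => ?_
    set z : Unit ⊕ (Fin m ⊕ Fin m) → F := Sum.elim (fun _ => 0) w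
    set y := ((g⁻¹).1 : Matrix (Unit ⊕ (Fin m ⊕ Fin m)) (Unit ⊕ (Fin m ⊕ Fin m)) F) *ᵥ z with hy
    have hgy : (g.1 : Matrix (Unit ⊕ (Fin m ⊕ Fin m)) (Unit ⊕ (Fin m ⊕ Fin m)) F) *ᵥ y = z := by
      rw [hy, Matrix.mulVec_mulVec, ← Units.val_mul, ← Subgroup.coe_mul, mul_inv_cancel]
      simp
    have h1 := odd_preserves g (e + y)
    have h2 := odd_preserves g e
    have h3 := odd_preserves g y
    rw [Matrix.mulVec_add, ← hu, hgy] at h1
    rw [← hu] at h2
    rw [hgy] at h3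
    have e1 : e + y = Sum.elim (fun _ => 1 + y (.inl ())) (y ∘ Sum.inr) := by
      funext i; rcases i with i | i <;> simp [e]
    have e2 : u + z = Sum.elim (fun _ => u (.inl ())) (u ∘ Sum.inr + w) := by
      funext i; rcases i with i | i <;> simp [z]
    rw [e1, e2, quadFormOdd_elim, quadFormOdd_elim, quadFormPlus_add_char_two, CharTwo.add_sq] at h1
    rw [hdecomp u, quadFormOdd_elim, quadFormOdd_elim, show quadFormPlus m F 0 = 0 by simp [quadFormPlus]] at h2
    rw [hdecomp y, quadFormOdd_elim, quadFormOdd_elim] at h3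
    linear_combination h1 - h2 - h3
  have h2 := odd_preserves g e
  rw [← hu, hdecomp u, hw, quadFormOdd_elim, quadFormOdd_elim,
    show quadFormPlus m F 0 = 0 by simp [quadFormPlus], add_zero, add_zero, one_pow] at h2
  rw [hdecomp u, hw, CharTwo.sq_injective (h2.trans (one_pow 2).symm)]

theorem odd_entries : (g.1 : Matrix (Unit ⊕ (Fin m ⊕ Fin m)) (Unit ⊕ (Fin m ⊕ Fin m)) F) (.inl ()) (.inl ()) = 1 ∧
    ∀ j, (g.1 : Matrix (Unit ⊕ (Fin m ⊕ Fin m)) (Unit ⊕ (Fin m ⊕ Fin m)) F) (.inr j) (.inl ()) = 0 := by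
  have h := odd_fix_radical g
  constructor
  · simpa [Matrix.mulVec, dotProduct, Fintype.sum_sum_type] using congrFun h (.inl ())
  · intro j
    simpa [Matrix.mulVec, dotProduct, Fintype.sum_sum_type] using congrFun h (.inr j)

theorem odd_mulVec_elim (c : F) (w : Fin m ⊕ Fin m → F) :
    (g.1 : Matrix (Unit ⊕ (Fin m ⊕ Fin m)) (Unit ⊕ (Fin m ⊕ Fin m)) F) *ᵥ Sum.elim (fun _ => c) w =
      Sum.elim (fun _ => c + ∑ j, (g.1 : Matrix (Unit ⊕ (Fin m ⊕ Fin m)) (Unit ⊕ (Fin m ⊕ Fin m)) F) (.inl ()) (.inr j) * w j)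
        ((g.1 : Matrix (Unit ⊕ (Fin m ⊕ Fin m)) (Unit ⊕ (Fin m ⊕ Fin m)) F).toBlocks₂₂ *ᵥ w) := by
  obtain ⟨h1, h2⟩ := odd_entries g
  funext i
  rcases i with i | i
  · simp [Matrix.mulVec, dotProduct, h1]
  · simp [Matrix.mulVec, dotProduct, Matrix.toBlocks₂₂, h2]

theorem odd_block_mem : (g.1 : Matrix (Unit ⊕ (Fin m ⊕ Fin m)) (Unit ⊕ (Fin m ⊕ Fin m)) F).toBlocks₂₂ ∈ Matrix.symplecticGroup (Fin m) F := by
  refine CfsgLib.Linear.Symp.mem_of_form_mulVec fun u w => ?_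
  have hq : ∀ w, (∑ j, (g.1 : Matrix (Unit ⊕ (Fin m ⊕ Fin m)) (Unit ⊕ (Fin m ⊕ Fin m)) F) (.inl ()) (.inr j) * w j) ^ 2 +
      quadFormPlus m F ((g.1 : Matrix (Unit ⊕ (Fin m ⊕ Fin m)) (Unit ⊕ (Fin m ⊕ Fin m)) F).toBlocks₂₂ *ᵥ w) = quadFormPlus m F w := fun w => by
    have h := odd_preserves g (Sum.elim (fun _ => 0) w)
    rw [odd_mulVec_elim, quadFormOdd_elim, quadFormOdd_elim, zero_add] at h
    simpa using h
  have h1 := hq (u + w)
  have h2 := hq u
  have h3 := hq w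
  simp only [Pi.add_apply, mul_add, Finset.sum_add_distrib, Matrix.mulVec_add, CharTwo.add_sq,
    quadFormPlus_add_char_two] at h1
  linear_combination h1 - h2 - h3

end

/-- The action on the quotient by the radical. -/
def oddToSymp : Cfsg.isometryGroup F (quadFormOdd m F) →* Matrix.symplecticGroup (Fin m) F where
  toFun g := ⟨(g.1 : Matrix (Unit ⊕ (Fin m ⊕ Fin m)) (Unit ⊕ (Fin m ⊕ Fin m)) F).toBlocks₂₂, odd_block_mem g⟩
  map_one' := Subtype.ext (by
    ext i j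
    simp [Matrix.toBlocks₂₂, Matrix.one_apply])
  map_mul' g h := Subtype.ext (by
    ext i j
    show ((g.1 : Matrix (Unit ⊕ (Fin m ⊕ Fin m)) (Unit ⊕ (Fin m ⊕ Fin m)) F) * (h.1 : Matrix (Unit ⊕ (Fin m ⊕ Fin m)) (Unit ⊕ (Fin m ⊕ Fin m)) F)) (.inr i) (.inr j) = _
    simp [Matrix.toBlocks₂₂, Matrix.mul_apply, (odd_entries g).2 i])

theorem oddToSymp_injective : Function.Injective (oddToSymp (F := F) (m := m)) := by
  intro g h hgh
  have hb : (g.1 : Matrix (Unit ⊕ (Fin m ⊕ Fin m)) (Unit ⊕ (Fin m ⊕ Fin m)) F).toBlocks₂₂ = (h.1 : Matrix (Unit ⊕ (Fin m ⊕ Fin m)) (Unit ⊕ (Fin m ⊕ Fin m)) F).toBlocks₂₂ :=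
    congrArg Subtype.val hgh
  refine Subtype.ext (Units.ext (Matrix.ext_of_mulVec_single fun k => ?_))
  obtain ⟨c, w, hk⟩ : ∃ c w, (Pi.single k 1 : Unit ⊕ (Fin m ⊕ Fin m) → F) = Sum.elim (fun _ => c) w :=
    ⟨(Pi.single k 1 : Unit ⊕ (Fin m ⊕ Fin m) → F) (Sum.inl ()), (Pi.single k 1 : Unit ⊕ (Fin m ⊕ Fin m) → F) ∘ Sum.inr, by
      funext i; rcases i with i | i <;> rfl⟩
  have h1 := odd_preserves g (Sum.elim (fun _ => c) w)
  have h2 := odd_preserves h (Sum.elim (fun _ => c) w)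
  rw [odd_mulVec_elim, quadFormOdd_elim, hb] at h1
  rw [odd_mulVec_elim, quadFormOdd_elim, ← h1] at h2
  rw [hk, odd_mulVec_elim, odd_mulVec_elim, hb, CharTwo.sq_injective (add_right_cancel h2)]

theorem oddToSymp_surjective [Finite F] : Function.Surjective (oddToSymp (F := F) (m := m)) := by
  classical
  haveI : Fintype F := Fintype.ofFinite F
  intro A
  set D : (Fin m ⊕ Fin m → F) → F := fun w =>
    quadFormPlus m F (A.1 *ᵥ w) + quadFormPlus m F w with hD
  have hsq : Function.Surjective (fun x : F => x ^ 2) :=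
    Finite.injective_iff_surjective.1 CharTwo.sq_injective
  choose r hr using fun j => hsq (D (Pi.single j 1))
  have hadd : ∀ u w, D (u + w) = D u + D w := fun u w => by
    simp only [hD, Matrix.mulVec_add, quadFormPlus_add_char_two,
      CfsgLib.Linear.Symp.form_mulVec A.2]
    linear_combination CharTwo.add_self_eq_zero (sympForm m F u w)
  have hDw : ∀ w, D w = (∑ j, r j * w j) ^ 2 := by
    intro w
    rw [CharTwo.sum_sq]
    have h0 : D 0 = 0 := by simp [hD, quadFormPlus]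
    let Dh : (Fin m ⊕ Fin m → F) →+ F := AddMonoidHom.mk' D hadd
    calc D w = Dh (∑ j, Pi.single j (w j)) := by rw [Finset.univ_sum_single]; rfl
      _ = ∑ j, (r j * w j) ^ 2 := by
        rw [map_sum]
        refine Finset.sum_congr rfl fun j _ => ?_
        show D (Pi.single j (w j)) = _
        rw [mul_pow, show r j ^ 2 = D (Pi.single j 1) from hr j,
          show Pi.single j (w j) = w j • (Pi.single j 1 : Fin m ⊕ Fin m → F) by
            rw [← Pi.single_smul', smul_eq_mul, mul_one]]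
        simp only [hD, Matrix.mulVec_smul, quadFormPlus_smul]
        ring
  set M : Matrix (Unit ⊕ (Fin m ⊕ Fin m)) (Unit ⊕ (Fin m ⊕ Fin m)) F :=
    Matrix.fromBlocks 1 (Matrix.of fun _ j => r j) 0 A.1 with hM
  have hdet : M.det ≠ 0 := by
    rw [hM, Matrix.det_fromBlocks_zero₂₁, Matrix.det_one, one_mul]
    exact (SymplecticGroup.symplectic_det A.2).ne_zero
  refine ⟨⟨Matrix.GeneralLinearGroup.mkOfDetNeZero M hdet, fun v _ => ?_⟩, Subtype.ext ?_⟩
  · show quadFormOdd m F (M *ᵥ v) = quadFormOdd m F v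
    have hv : v = Sum.elim (fun _ => v (.inl ())) (v ∘ Sum.inr) := by
      funext i; rcases i with i | i <;> rfl
    have hMv : M *ᵥ v = Sum.elim (fun _ => v (.inl ()) + ∑ j, r j * v (.inr j)) (A.1 *ᵥ (v ∘ Sum.inr)) := by
      funext i
      rcases i with i | i
      · simp [hM, Matrix.mulVec, dotProduct, Fintype.sum_sum_type]
      · simp [hM, Matrix.mulVec, dotProduct, Fintype.sum_sum_type]
    rw [hMv]
    conv_rhs => rw [hv]
    rw [quadFormOdd_elim, quadFormOdd_elim, CharTwo.add_sq]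
    have h := hDw (v ∘ Sum.inr)
    simp only [hD, Function.comp_apply] at h
    linear_combination (-1 : F) * h +
      CharTwo.add_self_eq_zero (quadFormPlus m F (A.1 *ᵥ (v ∘ Sum.inr)))
  · rfl

theorem nonempty_odd_equiv_symplectic [Finite F] :
    Nonempty (Cfsg.isometryGroup F (quadFormOdd m F) ≃* Matrix.symplecticGroup (Fin m) F) :=
  ⟨MulEquiv.ofBijective (oddToSymp (F := F) (m := m)) ⟨oddToSymp_injective, oddToSymp_surjective⟩⟩

end CfsgLib.Classical.SmallIso
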